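import Mathlib.GroupTheory.PGroup
import Mathlib.GroupTheory.QuotientGroup.Basic
import Mathlib.GroupTheory.Sylow
import Mathlib.GroupTheory.Index
import Mathlib.GroupTheory.SpecificGroups.Cyclic
import Mathlib.Tactic.LinearCombination

/-!
# Groups with the class sizes of `PSL(2,q)`: elementary facts
-/

set_option autoImplicit false
set_option linter.unusedSectionVars false

namespace CfsgLib.Char.PslSizes

open Subgroup

variable {G : Type*} [Group G] [Finite G]

/-- The centraliser of an element. -/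
abbrev C (x : G) : Subgroup G := centralizer ({x} : Set G)

/-- The class size of an element. -/
noncomputable abbrev cs (x : G) : ℕ := (C x).index

theorem mem_C {x g : G} : g ∈ C x ↔ g * x = x * g := mem_centralizer_singleton_iff

theorem self_mem (x : G) : x ∈ C x := mem_C.2 rfl

theorem mem_C_comm {x g : G} : g ∈ C x ↔ x ∈ C g := by rw [mem_C, mem_C, eq_comm]

theorem center_le (x : G) : center G ≤ C x := fun _ hg => mem_C.2 (mem_center_iff.1 hg x).symm

theorem cs_ne_zero (x : G) : cs x ≠ 0 := FiniteIndex.index_ne_zero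

theorem mem_center_iff_cs {x : G} : x ∈ center G ↔ cs x = 1 := by
  rw [index_eq_one, eq_top_iff']
  exact ⟨fun h g => mem_C.2 (mem_center_iff.1 h g), fun h => mem_center_iff.2 fun g => mem_C.1 (h g)⟩

theorem cs_dvd {x y : G} (h : C x ≤ C y) : cs y ∣ cs x := index_dvd_of_le h

theorem C_eq_of_le {x y : G} (h : C x ≤ C y) (e : cs x = cs y) : C x = C y := by
  refine le_antisymm h (relIndex_eq_one.1 ?_)
  have h1 := relIndex_mul_index h
  rw [show (C x).index = (C y).index from e] at h1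
  exact (mul_eq_right₀ (cs_ne_zero y)).1 h1

theorem C_le_pow (x : G) (k : ℕ) : C x ≤ C (x ^ k) := fun g hg => by
  rw [mem_C] at hg ⊢
  exact (Commute.pow_right hg k).eq

theorem C_mul_le {x y : G} (hxy : Commute x y) (hco : (orderOf x).Coprime (orderOf y)) :
    C (x * y) ≤ C x := by
  obtain ⟨j, hjx, hjy⟩ := Nat.chineseRemainder hco 1 0
  have h : (x * y) ^ j = x := by
    rw [hxy.mul_pow, pow_eq_pow_iff_modEq.2 hjy, pow_eq_pow_iff_modEq.2 hjx, pow_one, pow_zero, mul_one]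
  have := C_le_pow (x * y) j
  rwa [h] at this

/-- Quantities with no divisibility relation to the other class sizes. -/
def Extreme (G : Type*) [Group G] (X : ℕ) : Prop :=
  X ≠ 1 ∧ ∀ x : G, (cs x ∣ X → cs x = 1 ∨ cs x = X) ∧ (X ∣ cs x → cs x = X)

theorem ext_C_le {X : ℕ} (hX : Extreme G X) {x y : G} (hx : cs x = X) (hxy : y ∈ C x)
    (hco : (orderOf x).Coprime (orderOf y)) : C x ≤ C y := by
  have hc : Commute x y := (mem_C.1 hxy).symm
  have h1 := C_mul_le hc hco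
  have he : C (x * y) = C x := C_eq_of_le h1 (((hX.2 _).2 (hx ▸ cs_dvd h1)).trans hx.symm)
  have h2 : C (x * y) ≤ C y := by
    rw [hc.eq]
    exact C_mul_le hc.symm hco.symm
  exact he ▸ h2

theorem ext_C_eq {X : ℕ} (hX : Extreme G X) {x y : G} (hx : cs x = X) (h : C x ≤ C y)
    (hy : y ∉ center G) : C y = C x ∧ cs y = X := by
  rcases (hX.2 y).1 (hx ▸ cs_dvd h) with h1 | h1
  · exact absurd (mem_center_iff_cs.2 h1) hy
  · exact ⟨(C_eq_of_le h (hx.trans h1.symm)).symm, h1⟩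

/-- Primary components. -/
theorem exists_component {x : G} {r : ℕ} (hr : r.Prime) (hd : r ∣ orderOf (x : G ⧸ center G)) :
    ∃ j k : ℕ, (x ^ j) ^ r ^ k = 1 ∧ x ^ j ∉ center G := by
  have ho : orderOf (x : G ⧸ center G) ∣ orderOf x :=
    orderOf_map_dvd (QuotientGroup.mk' (center G)) x
  refine ⟨orderOf x / r ^ (orderOf x).factorization r, (orderOf x).factorization r, ?_, fun h => ?_⟩
  · rw [← pow_mul, Nat.div_mul_cancel (Nat.ordProj_dvd _ _), pow_orderOf_eq_one]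
  · refine Nat.not_dvd_ordCompl hr (orderOf_pos x).ne' (hd.trans (orderOf_dvd_of_pow_eq_one ?_))
    rw [← QuotientGroup.mk_pow, QuotientGroup.eq_one_iff]
    exact h

theorem mem_conj_C {g x a : G} : a ∈ C (g * x * g⁻¹) ↔ g⁻¹ * a * g ∈ C x := by
  rw [mem_C, mem_C]
  constructor
  · intro e
    calc g⁻¹ * a * g * x = g⁻¹ * (a * (g * x * g⁻¹)) * g := by group
      _ = _ := by rw [e]; group
  · intro e
    calc a * (g * x * g⁻¹) = g * (g⁻¹ * a * g * x) * g⁻¹ := by group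
      _ = _ := by rw [e]; group

theorem cs_conj (g x : G) : cs (g * x * g⁻¹) = cs x := by
  have e : C (g * x * g⁻¹) = (C x).comap (MulAut.conj g⁻¹).toMonoidHom := by
    ext a
    rw [mem_conj_C, mem_comap]
    show _ ↔ g⁻¹ * a * (g⁻¹)⁻¹ ∈ C x
    rw [inv_inv]
  show (C (g * x * g⁻¹)).index = (C x).index
  rw [e, index_comap_of_surjective _ (MulAut.conj g⁻¹).surjective]

theorem smul_sylow_iff {p : ℕ} (g x : G) (P : Sylow p G) :
    x ∈ ((g • P : Sylow p G) : Subgroup G) ↔ g⁻¹ * x * g ∈ (P : Subgroup G) := by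
  rw [Sylow.coe_subgroup_smul, Subgroup.mem_pointwise_smul_iff_inv_smul_mem, ← map_inv,
    MulAut.smul_def, MulAut.conj_apply, inv_inv]

theorem ne_one_of_cs {x : G} {X : ℕ} (hX : X ≠ 1) (hx : cs x = X) : x ∉ center G := fun h =>
  hX (hx ▸ mem_center_iff_cs.1 h)

/-- An element of extreme class size has a primary component with the same centraliser. -/
theorem exists_primary {X : ℕ} (hX : Extreme G X) {x : G} (hx : cs x = X) :
    ∃ (r j k : ℕ), r.Prime ∧ (x ^ j) ^ r ^ k = 1 ∧ C (x ^ j) = C x ∧ cs (x ^ j) = X := by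
  have h1 : orderOf (x : G ⧸ center G) ≠ 1 := by
    rw [Ne, orderOf_eq_one_iff, QuotientGroup.eq_one_iff]
    exact ne_one_of_cs hX.1 hx
  obtain ⟨r, hr, hd⟩ := Nat.exists_prime_and_dvd h1
  obtain ⟨j, k, hjk, hc⟩ := exists_component hr hd
  exact ⟨r, j, k, hr, hjk, ext_C_eq hX hx (C_le_pow x j) hc⟩

theorem coprime_of_pow {r k : ℕ} (hr : r.Prime) {x y : G} (hx : x ^ r ^ k = 1) (hy : ¬ r ∣ orderOf y) :
    (orderOf x).Coprime (orderOf y) :=
  Nat.Coprime.coprime_dvd_left (orderOf_dvd_of_pow_eq_one hx) ((hr.coprime_iff_not_dvd.2 hy).pow_left k)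

theorem two_parts {r : ℕ} (hr : r.Prime) (g : G) : ∃ u v : G, ∃ i j : ℤ,
    u ∈ zpowers g ∧ v ∈ zpowers g ∧ ¬ r ∣ orderOf u ∧ (∃ k, v ^ r ^ k = 1) ∧ g = u ^ i * v ^ j := by
  set n := orderOf g
  set m := r ^ n.factorization r with hm
  have hn : n ≠ 0 := (orderOf_pos g).ne'
  have hmn : m * (n / m) = n := Nat.ordProj_mul_ordCompl_eq_self _ _
  have hco : Nat.Coprime m (n / m) :=
    ((Nat.coprime_ordCompl hr hn)).pow_left _
  refine ⟨g ^ m, g ^ (n / m), Nat.gcdA m (n / m), Nat.gcdB m (n / m), pow_mem (mem_zpowers g) _,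
    pow_mem (mem_zpowers g) _, ?_, ⟨n.factorization r, ?_⟩, ?_⟩
  · rw [orderOf_pow g, Nat.gcd_eq_right (Dvd.intro _ hmn)]
    exact Nat.not_dvd_ordCompl hr hn
  · rw [← pow_mul, mul_comm, ← hm, hmn, pow_orderOf_eq_one]
  · rw [← zpow_natCast, ← zpow_natCast, ← zpow_mul, ← zpow_mul, ← zpow_add, ← Nat.gcd_eq_gcd_ab,
      hco.gcd_eq_one, Nat.cast_one, zpow_one]

/-- Either the prime-to-`r` part of a centraliser is central, or the centraliser is abelian. -/
theorem central_or_abelian {X : ℕ} (hX : Extreme G X) {r k : ℕ} (hr : r.Prime) {x : G} (hx : cs x = X)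
    (hxr : x ^ r ^ k = 1) :
    (∀ y ∈ C x, ¬ r ∣ orderOf y → y ∈ center G) ∨
      (∀ a ∈ C x, ∀ b ∈ C x, a * b = b * a) := by
  refine or_iff_not_imp_left.2 fun h => ?_
  simp only [not_forall, exists_prop] at h
  obtain ⟨y, hy, hyr, hyc⟩ := h
  obtain ⟨hyC, hyX⟩ := ext_C_eq hX hx (ext_C_le hX hx hy (coprime_of_pow hr hxr hyr)) hyc
  have hu : ∀ u ∈ C x, ¬ r ∣ orderOf u → C x ≤ C u := fun u hu hur =>
    ext_C_le hX hx hu (coprime_of_pow hr hxr hur)
  have hv : ∀ v ∈ C x, (∃ i, v ^ r ^ i = 1) → C x ≤ C v := fun v hv ⟨i, hi⟩ =>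
    hyC ▸ ext_C_le hX hyX (hyC.symm ▸ hv) (coprime_of_pow hr hi hyr).symm
  intro a ha b hb
  obtain ⟨u, v, i, j, hum, hvm, hur, hvr, rfl⟩ := two_parts hr a
  have hle : ∀ w ∈ zpowers (u ^ i * v ^ j), w ∈ C x := fun w hw => zpowers_le.2 ha hw
  have hbu : Commute u b := (mem_C.1 (hu u (hle u hum) hur hb)).symm
  have hbv : Commute v b := (mem_C.1 (hv v (hle v hvm) hvr hb)).symm
  exact ((hbu.zpow_left i).mul_left (hbv.zpow_left j)).eq

/-- The order of the image of a centraliser modulo the centre. -/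
noncomputable def zc (x : G) : ℕ := (center G).relIndex (C x)

theorem zc_mul_cs (x : G) : zc x * cs x = (center G).index := relIndex_mul_index (center_le x)

theorem zc_pos (x : G) : 0 < zc x := Nat.pos_of_ne_zero fun h =>
  FiniteIndex.index_ne_zero (H := center G) (by rw [← zc_mul_cs x, h, zero_mul])

theorem card_image_C (x : G) : Nat.card ((C x).map (QuotientGroup.mk' (center G))) = zc x := by
  rw [zc, ← relIndex_ker, QuotientGroup.ker_mk']

theorem image_le (x : G) : (C x).map (QuotientGroup.mk' (center G)) ≤ C (x : G ⧸ center G) := by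
  rintro _ ⟨g, hg, rfl⟩
  rw [mem_C, QuotientGroup.mk'_apply, ← QuotientGroup.mk_mul, ← QuotientGroup.mk_mul, mem_C.1 hg]

theorem zc_dvd (x : G) : zc x ∣ Nat.card (C (x : G ⧸ center G)) :=
  card_image_C x ▸ card_dvd_of_le (image_le x)

/-- The centraliser in the central quotient of a primary element. -/
theorem card_C_quot {r k : ℕ} (hr : r.Prime) {x : G} (hx : x ^ r ^ k = 1) :
    ∃ j, Nat.card (C (x : G ⧸ center G)) = zc x * r ^ j := by
  let π := QuotientGroup.mk' (center G)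
  let H : Subgroup G := (C (x : G ⧸ center G)).comap π
  have hCH : C x ≤ H := map_le_iff_le_comap.1 (image_le x)
  have hZH : center G ≤ H := (center_le x).trans hCH
  have hmem : ∀ h : H, (h : G) * x * (h : G)⁻¹ * x⁻¹ ∈ center G := fun h => by
    rw [← QuotientGroup.eq_one_iff, QuotientGroup.mk_mul, QuotientGroup.mk_mul, QuotientGroup.mk_mul]
    have e : ((h : G) : G ⧸ center G) * (x : G ⧸ center G) = (x : G ⧸ center G) * ((h : G) : G ⧸ center G) :=
      mem_C.1 h.2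
    rw [e, QuotientGroup.mk_inv, QuotientGroup.mk_inv]
    group
  let φ : H →* center G := MonoidHom.mk' (fun h => ⟨(h : G) * x * (h : G)⁻¹ * x⁻¹, hmem h⟩) fun a b => by
    refine Subtype.ext ?_
    simp only [Subgroup.coe_mul]
    have hz := mem_center_iff.1 (hmem b) (a : G)
    calc (a : G) * b * x * ((a : G) * b)⁻¹ * x⁻¹
        = ((a : G) * ((b : G) * x * (b : G)⁻¹ * x⁻¹)) * (x * (a : G)⁻¹ * x⁻¹) := by group
      _ = ((b : G) * x * (b : G)⁻¹ * x⁻¹) * ((a : G) * x * (a : G)⁻¹ * x⁻¹) := by rw [hz]; group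
      _ = _ := (mem_center_iff.1 (hmem b) _).symm
  have hker : φ.ker = (C x).subgroupOf H := by
    ext h
    rw [MonoidHom.mem_ker, mem_subgroupOf, mem_C, Subtype.ext_iff]
    show (h : G) * x * (h : G)⁻¹ * x⁻¹ = 1 ↔ _
    rw [mul_inv_eq_one, mul_inv_eq_iff_eq_mul]
  have hp : IsPGroup r φ.range := by
    rintro ⟨z, h, rfl⟩
    refine ⟨k, Subtype.ext (Subtype.ext ?_)⟩
    show ((h : G) * x * (h : G)⁻¹ * x⁻¹) ^ r ^ k = 1
    have hc : Commute ((h : G) * x * (h : G)⁻¹ * x⁻¹) x := (mem_center_iff.1 (hmem h) x).symm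
    have e := hc.mul_pow (r ^ k)
    rw [inv_mul_cancel_right, conj_pow, hx, mul_one, mul_one, mul_inv_cancel] at e
    exact e.symm
  haveI : Fact r.Prime := ⟨hr⟩
  obtain ⟨j, hj⟩ := hp.exists_card_eq
  refine ⟨j, ?_⟩
  have h1 := relIndex_mul_relIndex _ _ _ (center_le x) hCH
  have h2 : (center G).relIndex H = Nat.card (C (x : G ⧸ center G)) := by
    have e1 : Nat.card (H.map π) = (center G).relIndex H := by
      rw [← relIndex_ker, QuotientGroup.ker_mk']
    rw [← e1, map_comap_eq_self_of_surjective (QuotientGroup.mk'_surjective _)]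
  have h3 : (C x).relIndex H = r ^ j := by
    rw [← hj, ← index_ker, hker]
    rfl
  rw [← h2, ← h1, h3, zc]

/-- The data: sizes `1`, `A`, `N` and others divisible by `q`. -/
structure Hyp (G : Type*) [Group G] (p m A N : ℕ) : Prop where
  hp : p.Prime
  hm : 0 < m
  exA : ∃ x : G, cs x = A
  exN : ∃ x : G, cs x = N
  extA : Extreme G A
  extN : Extreme G N
  hpA : ¬ p ∣ A
  hqN : ∃ N', N = p ^ m * N' ∧ ¬ p ∣ N'
  hdiv : ∀ x : G, cs x ≠ 1 → cs x ≠ A → p ^ m ∣ cs x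
  hl : ∀ l, l.Prime → l ≠ p → ∃ x : G, cs x ≠ 1 ∧ cs x ≠ A ∧ ¬ l ∣ cs x

namespace Hyp

variable {p m A N : ℕ} (h : Hyp G p m A N)
include h

theorem p_dvd_N : p ∣ N := by
  obtain ⟨N', e, -⟩ := h.hqN
  exact e ▸ (dvd_pow_self p h.hm.ne').mul_right N'

/-- A centraliser of index prime to `p` contains a Sylow `p`-subgroup. -/
theorem sylow_le {H : Subgroup G} (hH : ¬ p ∣ H.index) : ∃ P : Sylow p G, (P : Subgroup G) ≤ H := by
  haveI : Fact p.Prime := ⟨h.hp⟩
  obtain ⟨R⟩ : Nonempty (Sylow p H) := inferInstance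
  have hR : IsPGroup p ((R : Subgroup H).map H.subtype) := R.2.map _
  refine ⟨hR.toSylow ?_, ?_⟩
  · rw [index_map_of_injective _ H.subtype_injective, range_subtype]
    exact h.hp.not_dvd_mul R.not_dvd_index hH
  · rw [IsPGroup.toSylow_coe]
    exact map_subtype_le _

theorem not_center_of_sylow (P : Sylow p G) : ¬ (P : Subgroup G) ≤ center G := fun hP => by
  haveI : Fact p.Prime := ⟨h.hp⟩
  obtain ⟨x, hx⟩ := h.exN
  exact P.not_dvd_index (h.p_dvd_N.trans (hx ▸ index_dvd_of_le (hP.trans (center_le x))))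

theorem not_dvd_orderOf_of {r k : ℕ} (hr : r.Prime) (hrp : r ≠ p) {x : G} (hx : x ^ r ^ k = 1) :
    ¬ p ∣ orderOf x := fun hd =>
  hrp (((Nat.prime_dvd_prime_iff_eq h.hp hr).1
    (h.hp.dvd_of_dvd_pow (hd.trans (orderOf_dvd_of_pow_eq_one hx)))).symm)

theorem prime_to_of {r k : ℕ} (hrp : r ≠ p) (hr : r.Prime) {v : G} (hv : v ^ p ^ k = 1) : ¬ r ∣ orderOf v :=
  fun hd => hrp ((Nat.prime_dvd_prime_iff_eq hr h.hp).1
    (hr.dvd_of_dvd_pow (hd.trans (orderOf_dvd_of_pow_eq_one hv))))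

/-- A Sylow subgroup has a central element of class size `A`. -/
theorem exists_w : ∃ (P : Sylow p G) (w : G), w ∈ P ∧ cs w = A ∧ (P : Subgroup G) ≤ C w := by
  haveI : Fact p.Prime := ⟨h.hp⟩
  obtain ⟨x, hx⟩ := h.exA
  obtain ⟨r, j, k, hr, hrk, hC, hA⟩ := exists_primary h.extA hx
  obtain ⟨P, hP⟩ := h.sylow_le (H := C (x ^ j)) (show ¬ p ∣ cs (x ^ j) by rw [hA]; exact h.hpA)
  have key : ∀ w : G, (∃ i, w ^ p ^ i = 1) → cs w = A → (P : Subgroup G) ≤ C w → w ∈ P := by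
    intro w ⟨i, hi⟩ _ hle
    have hS : IsPGroup p ↥((P : Subgroup G) ⊔ zpowers w) := by
      refine IsPGroup.to_sup_of_normal_left' P.2 (IsPGroup.of_card (n := ((orderOf w).factorization p)) ?_) ?_
      · rw [Nat.card_zpowers]
        obtain ⟨t, -, ht⟩ := (Nat.dvd_prime_pow h.hp).1 (orderOf_dvd_of_pow_eq_one hi)
        rw [ht, h.hp.factorization_pow, Finsupp.single_eq_same]
      · rw [zpowers_le, mem_normalizer_iff]
        intro g
        constructor
        · intro hg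
          rw [← mem_C.1 (hle hg), mul_inv_cancel_right]
          exact hg
        · intro hg
          have e := mem_C.1 (hle hg)
          have : g = w * g * w⁻¹ := by
            calc g = w⁻¹ * ((w * g * w⁻¹) * w) := by group
              _ = w * g * w⁻¹ := by rw [e]; group
          rw [this]; exact hg
    have := P.3 hS le_sup_left
    show w ∈ (P : Subgroup G)
    rw [← this]
    exact mem_sup_right (mem_zpowers w)
  rcases eq_or_ne r p with rfl | hrp
  · exact ⟨P, x ^ j, key _ ⟨k, hrk⟩ hA hP, hA, hP⟩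
  obtain ⟨v, hvP, hvc⟩ := SetLike.not_le_iff_exists.1 (h.not_center_of_sylow P)
  obtain ⟨i, hi⟩ := P.2 ⟨v, hvP⟩
  have hi' : v ^ p ^ i = 1 := congrArg Subtype.val hi
  obtain ⟨hvC, hvA⟩ := ext_C_eq h.extA hA (ext_C_le h.extA hA (hP hvP)
    (coprime_of_pow hr hrk (h.prime_to_of hrp hr hi'))) hvc
  exact ⟨P, v, hvP, hvA, hvC ▸ hP⟩

theorem exists_central_w (P : Sylow p G) : ∃ w : G, w ∈ P ∧ cs w = A ∧ (P : Subgroup G) ≤ C w := by
  haveI : Fact p.Prime := ⟨h.hp⟩
  obtain ⟨P0, w, hw, hA, hle⟩ := h.exists_w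
  obtain ⟨g, rfl⟩ := MulAction.exists_smul_eq G P0 P
  refine ⟨g * w * g⁻¹, (smul_sylow_iff g _ P0).2 ?_, (cs_conj g w).trans hA, fun a ha =>
    mem_conj_C.2 (hle ((smul_sylow_iff g a P0).1 ha))⟩
  rwa [show g⁻¹ * (g * w * g⁻¹) * g = w by group]

/-- No `p`-element has class size `N`. -/
theorem p_elem_ne_N {v : G} {i : ℕ} (hv : v ^ p ^ i = 1) : cs v ≠ N := by
  haveI : Fact p.Prime := ⟨h.hp⟩
  intro hN
  rcases central_or_abelian h.extN h.hp hN hv with hc | hc
  · have hd : ∀ g : ((C v).map (QuotientGroup.mk' (center G))), ∃ t, g ^ p ^ t = 1 := by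
      rintro ⟨_, g, hg, rfl⟩
      obtain ⟨u, w, a, b, hum, hwm, hur, ⟨t, ht⟩, hgu⟩ := two_parts h.hp g
      refine ⟨t, Subtype.ext ?_⟩
      show (g : G ⧸ center G) ^ p ^ t = 1
      rw [hgu, QuotientGroup.mk_mul, QuotientGroup.mk_zpow, QuotientGroup.mk_zpow,
        (QuotientGroup.eq_one_iff u).2 (hc u (zpowers_le.2 hg hum) hur), one_zpow, one_mul,
        ← zpow_natCast, ← zpow_mul, mul_comm, zpow_mul, zpow_natCast, ← QuotientGroup.mk_pow, ht,
        QuotientGroup.mk_one, one_zpow]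
    obtain ⟨t, ht⟩ := IsPGroup.exists_card_eq (show IsPGroup p ((C v).map (QuotientGroup.mk' (center G))) from hd)
    rw [card_image_C] at ht
    obtain ⟨x, hx⟩ := h.exA
    have h1 : A ∣ zc v * cs v := by rw [zc_mul_cs, ← zc_mul_cs x, hx]; exact dvd_mul_left _ _
    rw [ht, hN] at h1
    have h2 : A ∣ N := ((h.hp.coprime_iff_not_dvd.2 h.hpA).pow_left t).symm.dvd_of_dvd_mul_left h1
    rw [← hN] at h2
    exact h.hpA ((h.extA.2 v).2 h2 ▸ hN ▸ h.p_dvd_N)
  · obtain ⟨P, hP⟩ := (IsPGroup.of_card (p := p) (n := (orderOf v).factorization p) (G := zpowers v) (by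
      rw [Nat.card_zpowers]
      obtain ⟨t, -, ht⟩ := (Nat.dvd_prime_pow h.hp).1 (orderOf_dvd_of_pow_eq_one hv)
      rw [ht, h.hp.factorization_pow, Finsupp.single_eq_same])).exists_le_sylow
    obtain ⟨w, hw, hA, hle⟩ := h.exists_central_w P
    have hwv : w ∈ C v := mem_C_comm.1 (hle (hP (mem_zpowers v)))
    have hle' : C v ≤ C w := fun a ha => mem_C.2 (hc a ha w hwv)
    have h2 := cs_dvd hle'
    rw [hA, hN, ← hN] at h2
    exact h.hpA ((h.extA.2 v).2 h2 ▸ hN ▸ h.p_dvd_N)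

theorem factorization_center_index : ∃ u, (center G).index = p ^ m * u ∧ ¬ p ∣ u := by
  haveI : Fact p.Prime := ⟨h.hp⟩
  obtain ⟨x, hx⟩ := h.exN
  obtain ⟨r, j, k, hr, hrk, hC, hN⟩ := exists_primary h.extN hx
  obtain ⟨N', hN', hpN'⟩ := h.hqN
  have hrp : r ≠ p := fun e => h.p_elem_ne_N (e ▸ hrk) hN
  refine ⟨zc (x ^ j) * N', by rw [← zc_mul_cs (x ^ j), hN, hN']; ring, h.hp.not_dvd_mul (fun hd => ?_) hpN'⟩
  rw [← card_image_C] at hd
  obtain ⟨⟨_, g, hg, rfl⟩, hgo⟩ := exists_prime_orderOf_dvd_card' p hd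
  have hgo' : p ∣ orderOf (g : G ⧸ center G) := by
    rw [← orderOf_coe] at hgo; exact hgo ▸ dvd_rfl
  obtain ⟨i, t, hit, hgc⟩ := exists_component h.hp hgo'
  have hle := ext_C_le h.extN hN (pow_mem hg i) (coprime_of_pow hr hrk (h.prime_to_of hrp hr hit))
  exact h.p_elem_ne_N hit (ext_C_eq h.extN hN hle hgc).2

theorem zc_dvd_p {v : G} {i : ℕ} (hv : v ^ p ^ i = 1) (hc : v ∉ center G) : p ∣ zc v := by
  haveI : Fact p.Prime := ⟨h.hp⟩
  rw [← card_image_C]
  let w : (C v).map (QuotientGroup.mk' (center G)) := ⟨_, v, self_mem v, rfl⟩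
  have hw : w ^ p ^ i = 1 := Subtype.ext (by
    show (v : G ⧸ center G) ^ p ^ i = 1
    rw [← QuotientGroup.mk_pow, hv, QuotientGroup.mk_one])
  have hw1 : w ≠ 1 := fun e => hc ((QuotientGroup.eq_one_iff v).1 (congrArg Subtype.val e))
  obtain ⟨t, -, ht⟩ := (Nat.dvd_prime_pow h.hp).1 (orderOf_dvd_of_pow_eq_one hw)
  have ht0 : t ≠ 0 := fun e => hw1 (orderOf_eq_one_iff.1 (by rw [ht, e, pow_zero]))
  exact (ht ▸ dvd_pow_self p ht0 : p ∣ orderOf w).trans (orderOf_dvd_natCard w)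

theorem p_elem_cs {v : G} {i : ℕ} (hv : v ^ p ^ i = 1) (hc : v ∉ center G) : cs v = A := by
  by_contra hA
  obtain ⟨u, hu, hpu⟩ := h.factorization_center_index
  obtain ⟨c, hc1⟩ := h.hdiv v (fun e => hc (mem_center_iff_cs.2 e)) hA
  have h1 := zc_mul_cs v
  rw [hc1, hu, mul_left_comm] at h1
  exact hpu ((h.zc_dvd_p hv hc).trans
    ⟨c, (Nat.eq_of_mul_eq_mul_left (pow_pos h.hp.pos m) h1).symm⟩)

theorem p_elem_prime_to_central {v : G} {i : ℕ} (hv : v ^ p ^ i = 1) (hc : v ∉ center G) :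
    ∀ y ∈ C v, ¬ p ∣ orderOf y → y ∈ center G := by
  haveI : Fact p.Prime := ⟨h.hp⟩
  have hA := h.p_elem_cs hv hc
  intro y hy hyp
  by_contra hyc
  obtain ⟨hyC, hyA⟩ := ext_C_eq h.extA hA (ext_C_le h.extA hA hy (coprime_of_pow h.hp hv hyp)) hyc
  obtain ⟨l, j, k, hl, hlk, hC, hA'⟩ := exists_primary h.extA hyA
  have hlp : l ≠ p := by
    rintro rfl
    have h1 : orderOf (y ^ j) = 1 := by
      obtain ⟨t, -, ht⟩ := (Nat.dvd_prime_pow hl).1 (orderOf_dvd_of_pow_eq_one hlk)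
      rcases Nat.eq_zero_or_pos t with h0 | h0
      · rw [ht, h0, pow_zero]
      · exact absurd ((ht ▸ dvd_pow_self l h0.ne').trans (orderOf_pow_dvd j)) hyp
    exact ne_one_of_cs h.extA.1 hA' (orderOf_eq_one_iff.1 h1 ▸ one_mem _)
  rcases central_or_abelian h.extA hl hA' hlk with hab | hab
  · refine hc (hab v ?_ (h.prime_to_of hlp hl hv))
    rw [hC, hyC]
    exact self_mem v
  obtain ⟨u, hu1, huA, hul⟩ := h.hl l hl hlp
  haveI : Fact l.Prime := ⟨hl⟩
  obtain ⟨S, hS⟩ := (IsPGroup.of_card (p := l) (n := (orderOf (y ^ j)).factorization l)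
    (G := zpowers (y ^ j)) (by
      rw [Nat.card_zpowers]
      obtain ⟨t, -, ht⟩ := (Nat.dvd_prime_pow hl).1 (orderOf_dvd_of_pow_eq_one hlk)
      rw [ht, hl.factorization_pow, Finsupp.single_eq_same])).exists_le_sylow
  obtain ⟨R⟩ : Nonempty (Sylow l (C u)) := inferInstance
  let R' : Sylow l G := (R.2.map (C u).subtype).toSylow (by
    rw [index_map_of_injective _ (C u).subtype_injective, range_subtype]
    exact hl.not_dvd_mul R.not_dvd_index hul)
  obtain ⟨g, hg⟩ := MulAction.exists_smul_eq G S R'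
  have hmem : g * y ^ j * g⁻¹ ∈ (R' : Subgroup G) := by
    rw [← hg, smul_sylow_iff, show g⁻¹ * (g * y ^ j * g⁻¹) * g = y ^ j by group]
    exact hS (mem_zpowers _)
  have hgy : g * y ^ j * g⁻¹ ∈ C u := map_subtype_le (R : Subgroup (C u)) hmem
  set z := g⁻¹ * u * g with hz
  have hzC : z ∈ C (y ^ j) := by
    rw [hz, ← mem_conj_C, mem_C_comm]
    exact hgy
  have hle : C (y ^ j) ≤ C z := fun a ha => mem_C.2 (hab a ha z hzC)
  have hzu : cs z = cs u := by
    have := cs_conj g⁻¹ u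
    rwa [inv_inv] at this
  rcases (h.extA.2 z).1 (hA' ▸ cs_dvd hle) with e | e
  · exact hu1 (hzu ▸ e)
  · exact huA (hzu ▸ e)

theorem zc_p_elem {v : G} {i : ℕ} (hv : v ^ p ^ i = 1) (hc : v ∉ center G) : zc v = p ^ m := by
  haveI : Fact p.Prime := ⟨h.hp⟩
  have hd : ∀ g : ((C v).map (QuotientGroup.mk' (center G))), ∃ t, g ^ p ^ t = 1 := by
    rintro ⟨_, g, hg, rfl⟩
    obtain ⟨u, w, a, b, hum, hwm, hur, ⟨t, ht⟩, hgu⟩ := two_parts h.hp g
    refine ⟨t, Subtype.ext ?_⟩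
    show (g : G ⧸ center G) ^ p ^ t = 1
    rw [hgu, QuotientGroup.mk_mul, QuotientGroup.mk_zpow, QuotientGroup.mk_zpow,
      (QuotientGroup.eq_one_iff u).2 (h.p_elem_prime_to_central hv hc u (zpowers_le.2 hg hum) hur),
      one_zpow, one_mul,
      ← zpow_natCast, ← zpow_mul, mul_comm, zpow_mul, zpow_natCast, ← QuotientGroup.mk_pow, ht,
      QuotientGroup.mk_one, one_zpow]
  obtain ⟨t, ht⟩ := IsPGroup.exists_card_eq (show IsPGroup p ((C v).map (QuotientGroup.mk' (center G))) from hd)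
  rw [card_image_C] at ht
  obtain ⟨u, hu, hpu⟩ := h.factorization_center_index
  have h1 := zc_mul_cs v
  rw [ht, h.p_elem_cs hv hc, hu] at h1
  have h2 := congrArg (fun n => n.factorization p) h1
  have hA0 : A ≠ 0 := by rintro rfl; exact h.hpA (dvd_zero p)
  have hu0 : u ≠ 0 := by rintro rfl; exact hpu (dvd_zero p)
  simp only [Nat.factorization_mul (pow_ne_zero t h.hp.ne_zero) hA0,
    Nat.factorization_mul (pow_ne_zero m h.hp.ne_zero) hu0, Finsupp.add_apply,
    h.hp.factorization_pow, Finsupp.single_eq_same, Nat.factorization_eq_zero_of_not_dvd h.hpA,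
    Nat.factorization_eq_zero_of_not_dvd hpu, add_zero] at h2
  rw [ht, h2]

theorem center_index : (center G).index = p ^ m * A := by
  haveI : Fact p.Prime := ⟨h.hp⟩
  obtain ⟨P, w, hw, hA, -⟩ := h.exists_w
  obtain ⟨i, hi⟩ := P.2 ⟨w, hw⟩
  have hc : w ∉ center G := ne_one_of_cs h.extA.1 hA
  rw [← zc_mul_cs w, h.zc_p_elem (congrArg Subtype.val hi) hc, hA]

/-- Nontrivial `p`-elements of the central quotient have centralisers of order `q`. -/
theorem quot_cent {v : G ⧸ center G} (hv : v ^ p ^ m = 1) (hv1 : v ≠ 1) : Nat.card (C v) = p ^ m := by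
  obtain ⟨g, rfl⟩ := QuotientGroup.mk_surjective v
  obtain ⟨u, w, a, b, hum, hwm, hur, ⟨t, ht⟩, hgu⟩ := two_parts h.hp g
  have hu : (u : G ⧸ center G) = 1 := by
    obtain ⟨n, rfl⟩ := hum
    have h1 : ((g ^ n : G) : G ⧸ center G) ^ p ^ m = 1 := by
      rw [QuotientGroup.mk_zpow, ← zpow_natCast, ← zpow_mul, mul_comm, zpow_mul, zpow_natCast, hv, one_zpow]
    refine orderOf_eq_one_iff.1 (Nat.eq_one_of_dvd_coprimes (a := p ^ m)
      ((h.hp.coprime_iff_not_dvd.2 hur).pow_left m) (orderOf_dvd_of_pow_eq_one h1)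
      (orderOf_map_dvd (QuotientGroup.mk' (center G)) _))
  have hge : (g : G ⧸ center G) = ((w ^ b : G) : G ⧸ center G) := by
    rw [hgu, QuotientGroup.mk_mul, QuotientGroup.mk_zpow, hu, one_zpow, one_mul]
  have hwc : w ^ b ∉ center G := fun e => hv1 (hge ▸ (QuotientGroup.eq_one_iff _).2 e)
  have hwp : (w ^ b) ^ p ^ t = 1 := by
    rw [← zpow_natCast, ← zpow_mul, mul_comm, zpow_mul, zpow_natCast, ht, one_zpow]
  obtain ⟨j, hj⟩ := card_C_quot h.hp hwp
  rw [h.zc_p_elem hwp hwc, ← hge] at hj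
  have hd := card_subgroup_dvd_card (C (g : G ⧸ center G))
  rw [hj, show Nat.card (G ⧸ center G) = p ^ m * A from h.center_index] at hd
  rcases Nat.eq_zero_or_pos j with rfl | hj0
  · rw [hj, pow_zero, mul_one]
  · exact absurd ((dvd_pow_self p hj0.ne').trans (Nat.dvd_of_mul_dvd_mul_left (pow_pos h.hp.pos m) hd)) h.hpA

end Hyp

end CfsgLib.Char.PslSizes
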