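import Cfsg.Agent.Lib.Char.PslClassSizes.Basic
import Mathlib.GroupTheory.GroupAction.Quotient
import Mathlib.GroupTheory.Exponent

/-!
# Counting in a group whose `p`-centralisers have order `q`
-/

set_option autoImplicit false
set_option linter.unusedSectionVars false

namespace CfsgLib.Char.PslSizes

open Subgroup
open scoped Classical

variable {Q : Type*} [Group Q] [Finite Q]

theorem nat_card_centralizer_index (g : Q) : Nat.card {y : Q // IsConj g y} = (C g).index := by
  have h := MulAction.index_stabilizer (ConjAct Q) g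
  have e : (C g).index = (MulAction.stabilizer (ConjAct Q) g).index := by
    rw [C, Subgroup.centralizer_eq_comap_stabilizer]
    exact Subgroup.index_comap_of_surjective (f := ConjAct.toConjAct.toMonoidHom) _
      ConjAct.toConjAct.surjective
  rw [e, h, ← Nat.card_coe_set_eq]
  refine Nat.card_congr (Equiv.subtypeEquivRight fun x => ?_)
  rw [ConjAct.mem_orbit_conjAct]
  exact ⟨IsConj.symm, IsConj.symm⟩

/-- A conjugation invariant set of elements with centralisers of order `c` is a union of classes. -/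
theorem card_classes [Fintype Q] (s : Finset Q) (hs : ∀ g, ∀ x ∈ s, g * x * g⁻¹ ∈ s) (c : ℕ)
    (hc : ∀ x ∈ s, Nat.card (C x) = c) :
    s.card * c = (s.image ConjClasses.mk).card * Nat.card Q := by
  have hfib : ∀ k ∈ s.image ConjClasses.mk, (s.filter (fun y => ConjClasses.mk y = k)).card * c = Nat.card Q := by
    intro k hk
    obtain ⟨x, hx, rfl⟩ := Finset.mem_image.1 hk
    have hfil : s.filter (fun y => ConjClasses.mk y = ConjClasses.mk x) =
        Finset.univ.filter (fun y => IsConj x y) := by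
      ext y
      simp only [Finset.mem_filter, Finset.mem_univ, true_and, ConjClasses.mk_eq_mk_iff_isConj]
      refine ⟨fun h => h.2.symm, fun h => ⟨?_, h.symm⟩⟩
      obtain ⟨g, rfl⟩ := isConj_iff.1 h
      exact hs g x hx
    have h1 : Nat.card {y : Q // IsConj x y} * Nat.card (C x) = Nat.card Q := by
      rw [mul_comm, ← card_mul_index (C x)]
      congr 1
      rw [C, nat_card_centralizer_index x]
    rw [hfil, ← Fintype.card_subtype, ← Nat.card_eq_fintype_card, ← hc x hx, h1]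
  rw [Finset.card_eq_sum_card_image ConjClasses.mk s, Finset.sum_mul, Finset.sum_congr rfl hfib,
    Finset.sum_const, smul_eq_mul]

/-- The hypotheses on the central quotient. -/
structure PData (Q : Type*) [Group Q] (p m A d : ℕ) : Prop where
  hp : p.Prime
  hq : 4 ≤ p ^ m
  card : Nat.card Q = p ^ m * A
  hA : ¬ p ∣ A
  hAd : A * d + 1 = (p ^ m) ^ 2
  hd : 1 ≤ d ∧ d ≤ 2
  cent : ∀ v : Q, v ≠ 1 → v ^ p ^ m = 1 → Nat.card (C v) = p ^ m

namespace PData

variable {p m A d : ℕ} (h : PData Q p m A d)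
include h

theorem m_pos : 0 < m := Nat.pos_of_ne_zero fun e => by
  have := h.hq
  rw [e, pow_zero] at this
  omega

theorem A_pos : 0 < A := Nat.pos_of_ne_zero fun e => h.hA (e ▸ dvd_zero p)

theorem pow_q_of_pow {x : Q} {i : ℕ} (hx : x ^ p ^ i = 1) : x ^ p ^ m = 1 := by
  obtain ⟨t, -, ht⟩ := (Nat.dvd_prime_pow h.hp).1 (orderOf_dvd_of_pow_eq_one hx)
  refine orderOf_dvd_iff_pow_eq_one.1 (Nat.Coprime.dvd_of_dvd_mul_right ?_ (h.card ▸ orderOf_dvd_natCard x))
  rw [ht]
  exact (h.hp.coprime_iff_not_dvd.2 h.hA).pow_left t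

theorem mem_of_comm {x v : Q} (hv : v ^ p ^ m = 1) (hv1 : v ≠ 1) (hx : x ∈ C v) : x ^ p ^ m = 1 := by
  have := pow_card_eq_one' (x := (⟨x, hx⟩ : C v))
  rw [h.cent v hv1 hv] at this
  exact congrArg Subtype.val this

/-- The other elements have centralisers of order prime to `p`. -/
theorem cent_dvd {x : Q} (hx : x ^ p ^ m ≠ 1) : ¬ p ∣ Nat.card (C x) ∧ Nat.card (C x) ∣ A := by
  haveI : Fact p.Prime := ⟨h.hp⟩
  have h1 : ¬ p ∣ Nat.card (C x) := fun hd => by
    obtain ⟨⟨v, hv⟩, hvo⟩ := exists_prime_orderOf_dvd_card' p hd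
    rw [Subgroup.orderOf_mk] at hvo
    refine hx (h.mem_of_comm (h.pow_q_of_pow (i := 1) ?_) ?_ (mem_C_comm.1 hv))
    · rw [pow_one, ← hvo, pow_orderOf_eq_one]
    · rintro rfl
      exact h.hp.one_lt.ne (by rw [← hvo, orderOf_one])
  exact ⟨h1, Nat.Coprime.dvd_of_dvd_mul_left
    (((h.hp.coprime_iff_not_dvd.2 h1).pow_left m).symm) (h.card ▸ card_subgroup_dvd_card (C x))⟩

/-- There are `q ^ 2 - 1` nontrivial `p`-elements, in `d` classes. -/
theorem count [Fintype Q] :
    ((Finset.univ : Finset Q).filter (fun x => x ≠ 1 ∧ x ^ p ^ m = 1)).card = d * A ∧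
    (((Finset.univ : Finset Q).filter (fun x => x ≠ 1 ∧ x ^ p ^ m = 1)).image ConjClasses.mk).card = d := by
  set q := p ^ m with hq
  set S := (Finset.univ : Finset Q).filter (fun x => x ≠ 1 ∧ x ^ q = 1) with hS
  set R := (Finset.univ : Finset Q).filter (fun x => x ^ q ≠ 1) with hR
  set k := (S.image ConjClasses.mk).card with hk
  have hq0 : 0 < q := pow_pos h.hp.pos m
  have h1 : S.card * q = k * (q * A) := by
    rw [← h.card]
    refine card_classes S (fun g x hx => ?_) q fun x hx => ?_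
    · simp only [hS, Finset.mem_filter, Finset.mem_univ, true_and] at hx ⊢
      refine ⟨fun e => hx.1 (conj_eq_one_iff.1 e), ?_⟩
      rw [conj_pow, hx.2, mul_one, mul_inv_cancel]
    · simp only [hS, Finset.mem_filter, Finset.mem_univ, true_and] at hx
      exact h.cent x hx.1 hx.2
  have hSc : S.card = k * A := Nat.eq_of_mul_eq_mul_right hq0 (by rw [h1]; ring)
  have hRd : q ∣ R.card := by
    rw [Finset.card_eq_sum_card_image ConjClasses.mk R]
    refine Finset.dvd_sum fun c hc => ?_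
    obtain ⟨x, hx, rfl⟩ := Finset.mem_image.1 hc
    simp only [hR, Finset.mem_filter, Finset.mem_univ, true_and] at hx
    have hfil : R.filter (fun y => ConjClasses.mk y = ConjClasses.mk x) =
        Finset.univ.filter (fun y => IsConj x y) := by
      ext y
      simp only [hR, Finset.mem_filter, Finset.mem_univ, true_and, ConjClasses.mk_eq_mk_iff_isConj]
      refine ⟨fun h => h.2.symm, fun h => ⟨?_, h.symm⟩⟩
      obtain ⟨g, rfl⟩ := isConj_iff.1 h
      rw [conj_pow]
      exact fun e => hx (conj_eq_one_iff.1 e)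
    rw [hfil, ← Fintype.card_subtype, ← Nat.card_eq_fintype_card, nat_card_centralizer_index x]
    obtain ⟨u, hu⟩ := (h.cent_dvd hx).2
    refine ⟨u, Nat.eq_of_mul_eq_mul_left (Nat.card_pos (α := C x)) ?_⟩
    rw [card_mul_index (C x), h.card]
    calc q * A = q * (Nat.card (C x) * u) := by rw [← hu]
      _ = Nat.card (C x) * (q * u) := by ring
  have htot : q * A = 1 + k * A + R.card := by
    have e1 := Finset.card_filter_add_card_filter_not (s := (Finset.univ : Finset Q)) (fun x => x ^ q = 1)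
    have e2 : ((Finset.univ : Finset Q).filter (fun x => x ^ q = 1)).card = S.card + 1 := by
      rw [show ((Finset.univ : Finset Q).filter (fun x => x ^ q = 1)) = insert 1 S by
        ext x; by_cases hx : x = 1 <;> simp [hS, hx], Finset.card_insert_of_notMem (by simp [hS])]
    rw [e2, Finset.card_univ, ← Nat.card_eq_fintype_card, h.card, hSc] at e1
    simp only [← ne_eq, ← hR] at e1
    rw [← hq] at e1
    omega
  obtain ⟨c, hc⟩ := hRd
  have hk' : k < q := by
    by_contra hle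
    have : q * A ≤ k * A := Nat.mul_le_mul_right A (not_lt.1 hle)
    omega
  have e : k = d := by
    have hAd := h.hAd
    have hd := h.hd
    have h4 := h.hq
    have e1 : (q : ℤ) * A = 1 + k * A + q * c := by rw [hc] at htot; exact_mod_cast htot
    have e2 : (A : ℤ) * d + 1 = (q : ℤ) ^ 2 := by exact_mod_cast hAd
    have e3 : (q : ℤ) ∣ (k : ℤ) - d :=
      ⟨k * q + c * d - A * d, by linear_combination (d : ℤ) * e1 + (k : ℤ) * e2⟩
    have e4 : (q : ℤ) ∣ ((k : ℤ) - d).natAbs := Int.dvd_natAbs.2 e3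
    have e5 : q ∣ ((k : ℤ) - d).natAbs := by exact_mod_cast e4
    rcases Nat.eq_zero_or_pos ((k : ℤ) - d).natAbs with h0 | h0
    · omega
    · have := Nat.le_of_dvd h0 e5
      omega
  exact ⟨by rw [hSc, e], e⟩

theorem sylow_card (P : Sylow p Q) : Nat.card P = p ^ m := by
  haveI : Fact p.Prime := ⟨h.hp⟩
  rw [Sylow.card_eq_multiplicity, h.card, Nat.factorization_mul (pow_ne_zero m h.hp.ne_zero) h.A_pos.ne',
    Finsupp.add_apply, h.hp.factorization_pow, Finsupp.single_eq_same,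
    Nat.factorization_eq_zero_of_not_dvd h.hA, add_zero]

theorem sylow_pow (P : Sylow p Q) {x : Q} (hx : x ∈ (P : Subgroup Q)) : x ^ p ^ m = 1 := by
  obtain ⟨i, hi⟩ := P.2 ⟨x, hx⟩
  exact h.pow_q_of_pow (congrArg Subtype.val hi)

theorem exists_mem_sylow {x : Q} (hx : x ^ p ^ m = 1) : ∃ P : Sylow p Q, x ∈ (P : Subgroup Q) := by
  haveI : Fact p.Prime := ⟨h.hp⟩
  have : IsPGroup p (zpowers x) := fun ⟨y, hy⟩ => by
    obtain ⟨i, rfl⟩ := mem_zpowers_iff.1 hy
    refine ⟨m, Subtype.ext ?_⟩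
    show (x ^ i) ^ p ^ m = 1
    rw [← zpow_natCast, ← zpow_mul, mul_comm, zpow_mul, zpow_natCast, hx, one_zpow]
  obtain ⟨P, hP⟩ := this.exists_le_sylow
  exact ⟨P, hP (mem_zpowers x)⟩

/-- For `d = 1` the Sylow subgroups are abelian. -/
theorem comm_of_one (hd1 : d = 1) (h2 : p = 2) (P : Sylow p Q) :
    ∀ a ∈ (P : Subgroup Q), ∀ b ∈ (P : Subgroup Q), a * b = b * a := by
  classical
  haveI : Fintype Q := Fintype.ofFinite Q
  haveI : Fact (Nat.Prime 2) := ⟨Nat.prime_two⟩
  subst h2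
  have h2d : 2 ∣ Nat.card Q := h.card ▸ (dvd_pow_self 2 h.m_pos.ne').mul_right A
  obtain ⟨t, ht⟩ := exists_prime_orderOf_dvd_card' 2 h2d
  have htt : t ^ 2 = 1 := ht ▸ pow_orderOf_eq_one t
  have htS : t ≠ 1 ∧ t ^ 2 ^ m = 1 := ⟨fun e => by simp [e] at ht, h.pow_q_of_pow (i := 1) (by simpa using htt)⟩
  have hsq : ∀ x ∈ (P : Subgroup Q), x * x = 1 := by
    intro x hx
    by_cases hx1 : x = 1
    · rw [hx1, mul_one]
    obtain ⟨c, hc⟩ := Finset.card_eq_one.1 (h.count.2.trans hd1)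
    have hmem : ∀ y : Q, y ≠ 1 ∧ y ^ 2 ^ m = 1 → ConjClasses.mk y = c := fun y hy =>
      Finset.mem_singleton.1 (hc ▸ Finset.mem_image_of_mem _ (Finset.mem_filter.2 ⟨Finset.mem_univ _, hy⟩))
    obtain ⟨g, hg⟩ := isConj_iff.1 (ConjClasses.mk_eq_mk_iff_isConj.1
      ((hmem t htS).trans (hmem x ⟨hx1, h.sylow_pow P hx⟩).symm))
    rw [← pow_two, ← hg, conj_pow, htt, mul_one, mul_inv_cancel]
  intro a ha b hb
  have e1 := hsq a ha
  have e2 := hsq b hb
  have e3 := hsq _ (mul_mem ha hb)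
  calc a * b = a * ((a * b) * (a * b)) * b := by rw [e3, mul_one]
    _ = (a * a) * (b * a) * (b * b) := by group
    _ = b * a := by rw [e1, e2, one_mul, mul_one]

/-- Abelian Sylow subgroups are the centralisers of their nontrivial elements. -/
theorem sylow_eq_C (hab : ∀ P : Sylow p Q, ∀ a ∈ (P : Subgroup Q), ∀ b ∈ (P : Subgroup Q), a * b = b * a)
    (P : Sylow p Q) {v : Q} (hv : v ∈ (P : Subgroup Q)) (hv1 : v ≠ 1) : (P : Subgroup Q) = C v :=
  eq_of_le_of_card_ge (fun a ha => mem_C.2 (hab P a ha v hv))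
    (by rw [h.cent v hv1 (h.sylow_pow P hv)]; exact (h.sylow_card P).ge)

theorem card_sylow (hab : ∀ P : Sylow p Q, ∀ a ∈ (P : Subgroup Q), ∀ b ∈ (P : Subgroup Q), a * b = b * a) :
    Nat.card (Sylow p Q) = p ^ m + 1 := by
  classical
  haveI : Fintype Q := Fintype.ofFinite Q
  haveI : Fact p.Prime := ⟨h.hp⟩
  let f : (Σ P : Sylow p Q, {v : (P : Subgroup Q) // v ≠ 1}) → {x : Q // x ≠ 1 ∧ x ^ p ^ m = 1} := fun a =>
    ⟨(a.2.1 : Q), fun e => a.2.2 (Subtype.ext e), h.sylow_pow a.1 a.2.1.2⟩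
  have hf : Function.Bijective f := by
    constructor
    · rintro ⟨P, ⟨⟨v, hv⟩, hv1⟩⟩ ⟨P', ⟨⟨v', hv'⟩, hv1'⟩⟩ e
      obtain rfl : v = v' := congrArg Subtype.val e
      have hne : v ≠ 1 := fun e => hv1 (Subtype.ext e)
      obtain rfl : P = P' := Sylow.ext ((h.sylow_eq_C hab P hv hne).trans (h.sylow_eq_C hab P' hv' hne).symm)
      rfl
    · rintro ⟨x, hx1, hx⟩
      obtain ⟨P, hP⟩ := h.exists_mem_sylow hx
      exact ⟨⟨P, ⟨⟨x, hP⟩, fun e => hx1 (congrArg Subtype.val e)⟩⟩, rfl⟩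
  haveI : Fintype (Sylow p Q) := Fintype.ofFinite _
  have h1 := Nat.card_eq_of_bijective f hf
  rw [Nat.card_sigma, Nat.card_eq_fintype_card (α := {x : Q // x ≠ 1 ∧ x ^ p ^ m = 1}), Fintype.card_subtype,
    h.count.1] at h1
  have hP : ∀ P : Sylow p Q, Nat.card {v : (P : Subgroup Q) // v ≠ 1} = p ^ m - 1 := fun P => by
    rw [Nat.card_eq_fintype_card, Fintype.card_subtype_compl, Fintype.card_subtype_eq, ← Nat.card_eq_fintype_card,
      h.sylow_card P]
  simp only [hP, Finset.sum_const, smul_eq_mul, Finset.card_univ] at h1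
  rw [Nat.card_eq_fintype_card]
  have h4 := h.hq
  refine Nat.eq_of_mul_eq_mul_right (show 0 < p ^ m - 1 by omega) ?_
  rw [h1, ← Nat.sq_sub_sq (p ^ m) 1]
  have := h.hAd
  rw [one_pow, mul_comm d A]
  omega

end PData

end CfsgLib.Char.PslSizes
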