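import Cfsg.Agent.Lib.Char.PslClassSizes.Odd
import Cfsg.Agent.Lib.FT.NoMinSimple
import Cfsg.Agent.S0041

/-!
# The Sylow `p`-subgroups are abelian
-/

set_option autoImplicit false
set_option linter.unusedSectionVars false
set_option linter.style.haveILetI false

namespace CfsgLib.Char.PslSizes

open Subgroup
open scoped Classical commutatorElement

variable {Q : Type*} [Group Q] [Finite Q]

theorem exists_abelian_normal {K : Type*} [Group K] [Nontrivial K] (hK : Group.IsSolvable K) :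
    ∃ B : Subgroup K, B.Normal ∧ B ≠ ⊥ ∧ ∀ a ∈ B, ∀ b ∈ B, a * b = b * a := by
  haveI := hK
  have hex : ∃ n, derivedSeries K n = ⊥ := Group.IsSolvable.solvable
  have h0 : Nat.find hex ≠ 0 := fun e => by
    have := Nat.find_spec hex
    rw [e, derivedSeries_zero] at this
    exact top_ne_bot this
  obtain ⟨n, hn⟩ := Nat.exists_eq_succ_of_ne_zero h0
  refine ⟨derivedSeries K n, derivedSeries_normal K n, Nat.find_min hex (by omega), fun a ha b hb => ?_⟩
  have hm : ⁅a, b⁆ ∈ derivedSeries K (n + 1) := by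
    rw [derivedSeries_succ]; exact commutator_mem_commutator ha hb
  rw [show n + 1 = Nat.find hex from hn.symm, Nat.find_spec hex, mem_bot] at hm
  exact commutatorElement_eq_one_iff_mul_comm.1 hm

theorem pow_eq_one_of_dvd {x : Q} {n k : ℕ} (h : x ^ n = 1) (hd : n ∣ k) : x ^ k = 1 := by
  obtain ⟨c, rfl⟩ := hd
  rw [pow_mul, h, one_pow]

/-- An element of prime order `u` without fixed points on an invariant subgroup. -/
theorem dvd_card_sub_one {p : ℕ} [Fact p.Prime] (U : Subgroup Q) {u : Q} (hu : u ^ p = 1)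
    (hU : ∀ x ∈ U, u * x * u⁻¹ ∈ U) (hfix : ∀ x ∈ U, u * x = x * u → x = 1) : Nat.card U ≡ 1 [MOD p] := by
  have hUz : ∀ g ∈ zpowers u, ∀ x ∈ U, g * x * g⁻¹ ∈ U := by
    intro g hg
    obtain ⟨n, rfl⟩ := mem_powers_iff_mem_zpowers.2 hg
    induction n with
    | zero => simp
    | succ n ih =>
      intro x hx
      have := hU _ (ih (mem_powers_iff_mem_zpowers.1 ⟨n, rfl⟩) x hx)
      simpa [pow_succ', mul_assoc] using this
  letI : MulAction (zpowers u) U :=
    { smul := fun g x => ⟨g * x * (g : Q)⁻¹, hUz g g.2 x x.2⟩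
      one_smul := fun x => Subtype.ext (show (1 : Q) * x * (1 : Q)⁻¹ = x by simp)
      mul_smul := fun g g' x => Subtype.ext (show (g * g' : Q) * x * (g * g' : Q)⁻¹ = g * (g' * x * (g' : Q)⁻¹) * (g : Q)⁻¹ by group) }
  have hP : IsPGroup p (zpowers u) := fun ⟨y, hy⟩ => by
    obtain ⟨i, rfl⟩ := mem_zpowers_iff.1 hy
    refine ⟨1, Subtype.ext ?_⟩
    show (u ^ i) ^ p ^ 1 = 1
    rw [pow_one, ← zpow_natCast, ← zpow_mul, mul_comm, zpow_mul, zpow_natCast, hu, one_zpow]
  have h1 := hP.card_modEq_card_fixedPoints U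
  have h2 : Nat.card (MulAction.fixedPoints (zpowers u) U) = 1 := by
    rw [Nat.card_eq_one_iff_exists]
    refine ⟨⟨1, fun g => Subtype.ext (show (g : Q) * 1 * (g : Q)⁻¹ = 1 by simp)⟩, fun x => Subtype.ext (Subtype.ext ?_)⟩
    have e : u * (x.1 : Q) * u⁻¹ = x.1 := congrArg Subtype.val (x.2 ⟨u, mem_zpowers u⟩)
    exact hfix _ x.1.2 (mul_inv_eq_iff_eq_mul.1 e)
  rwa [h2] at h1

theorem C_conj_eq (g x : Q) {y : Q} (hy : ∀ a, a ∈ C x ↔ g * a * g⁻¹ ∈ C y) : C (g * x * g⁻¹) = C y := by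
  ext a
  rw [mem_conj_C, hy, show g * (g⁻¹ * a * g) * g⁻¹ = a by group]

namespace OData

variable {p m r e : ℕ} (h : OData Q p m r e)
include h

theorem T_cases {c : ℕ} (hd : 2 * r + 1 ∣ c) (hc : c = 2 * r + 1 ∨ c = 2 * (r + e) ∨ c = 4 * (r + e)) :
    c = 2 * r + 1 := by
  obtain ⟨he, hr⟩ := h.he, h.hr
  rcases hc with hc | hc | hc
  · exact hc
  all_goals
    exfalso
    have h1 : Nat.Coprime (2 * r + 1) (r + e) := by
      refine Nat.coprime_of_dvd fun k hk hk1 hk2 => ?_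
      rcases (show e = 0 ∨ e = 1 by omega) with rfl | rfl
      · exact hk.one_lt.ne' (Nat.dvd_one.1 ((Nat.dvd_add_right (hk2.mul_left 2)).1 (by simpa using hk1)))
      · have h3 : k ∣ 2 * r + 1 + 1 := by
          rw [show 2 * r + 1 + 1 = 2 * (r + 1) by ring]; exact hk2.mul_left 2
        exact hk.one_lt.ne' (Nat.dvd_one.1 ((Nat.dvd_add_right hk1).1 h3))
    rw [hc] at hd
    have h2 := Nat.le_of_dvd (by norm_num) (h1.dvd_of_dvd_mul_right hd)
    have h4 := h1.dvd_of_dvd_mul_right hd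
    rcases (show r = 1 ∨ 2 * r + 1 > 4 by omega) with h5 | h5
    · subst h5; norm_num at h4
    · omega

theorem coprime_T : Nat.Coprime (2 * r + 1) ((4 * r + 2 * e + 1) * (4 * (r + e))) := by
  obtain ⟨he, hr⟩ := h.he, h.hr
  refine Nat.coprime_of_dvd fun k hk hk1 hk2 => ?_
  have hk2' : k ≠ 2 := by rintro rfl; omega
  rcases hk.dvd_mul.1 hk2 with h1 | h1
  · rcases (show e = 0 ∨ e = 1 by omega) with rfl | rfl
    · exact hk.one_lt.ne' (Nat.dvd_one.1 ((Nat.dvd_add_right h1).1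
        (by rw [show 4 * r + 2 * 0 + 1 + 1 = 2 * (2 * r + 1) by ring]; exact hk1.mul_left 2)))
    · exact hk.one_lt.ne' (Nat.dvd_one.1 ((Nat.dvd_add_right (hk1.mul_left 2)).1
        (by rw [show 2 * (2 * r + 1) + 1 = 4 * r + 2 * 1 + 1 by ring]; exact h1)))
  · rcases hk.dvd_mul.1 h1 with h1 | h1
    · exact hk2' ((Nat.prime_dvd_prime_iff_eq hk Nat.prime_two).1 (hk.dvd_of_dvd_pow (show k ∣ 2 ^ 2 from h1)))
    · rcases (show e = 0 ∨ e = 1 by omega) with rfl | rfl
      · exact hk.one_lt.ne' (Nat.dvd_one.1 ((Nat.dvd_add_right (h1.mul_left 2)).1 (by simpa using hk1)))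
      · exact hk.one_lt.ne' (Nat.dvd_one.1 ((Nat.dvd_add_right hk1).1
          (by rw [show 2 * r + 1 + 1 = 2 * (r + 1) by ring]; exact h1.mul_left 2)))

theorem not_dvd_index_T {x : Q} (hx : Nat.card (C x) = 2 * r + 1) {l : ℕ} (hl : l.Prime)
    (hd : l ∣ 2 * r + 1) : ¬ l ∣ (C x).index := fun hi => by
  have h1 := card_mul_index (C x)
  rw [hx, h.card_Q, show (4 * r + 2 * e + 1) * ((2 * r + 1) * (4 * (r + e))) =
    (2 * r + 1) * ((4 * r + 2 * e + 1) * (4 * (r + e))) by ring] at h1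
  rw [Nat.eq_of_mul_eq_mul_left (by omega) h1] at hi
  exact hl.one_lt.ne' (Nat.eq_one_of_dvd_coprimes h.coprime_T hd hi)

/-- All centralisers of order `T` are conjugate. -/
theorem T_conj {y : Q} (hy : Nat.card (C y) = 2 * r + 1) {x : Q} (hx : Nat.card (C x) = 2 * r + 1) :
    ∃ g : Q, C (g * x * g⁻¹) = C y := by
  have hr := h.hr
  rcases h.tcase with hab | ⟨l, k, hl, hk⟩
  · obtain ⟨l, hl, hd⟩ := Nat.exists_prime_and_dvd (show 2 * r + 1 ≠ 1 by omega)
    haveI : Fact l.Prime := ⟨hl⟩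
    obtain ⟨⟨x', hx'⟩, hxo⟩ := exists_prime_orderOf_dvd_card' (G := C x) l (hx.symm ▸ hd)
    rw [Subgroup.orderOf_mk] at hxo
    have hle : C x ≤ C x' := fun a ha => mem_C.2 (hab x hx a ha x' hx')
    have hcard : Nat.card (C x') = 2 * r + 1 := by
      rcases h.card_five x' with ⟨h1, -⟩ | ⟨h1, h2, -⟩ | ⟨-, h2⟩
      · rw [h1, orderOf_one] at hxo; exact absurd hxo hl.one_lt.ne
      · have hlp : l ∣ p ^ m := hxo ▸ orderOf_dvd_of_pow_eq_one h2
        rw [h.hq] at hlp
        exact absurd (Nat.eq_one_of_dvd_coprimes h.coprime_T hd (hlp.mul_right _)) hl.one_lt.ne'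
      · exact h.T_cases (hx ▸ card_dvd_of_le hle) h2
    have heq : C x = C x' := eq_of_le_of_card_ge hle (by omega)
    obtain ⟨R⟩ : Nonempty (Sylow l (C y)) := inferInstance
    let R' : Sylow l Q := (R.2.map (C y).subtype).toSylow (by
      rw [index_map_of_injective _ (C y).subtype_injective, range_subtype]
      exact hl.not_dvd_mul R.not_dvd_index (h.not_dvd_index_T hy hl hd))
    obtain ⟨S, hS⟩ := (IsPGroup.of_card (p := l) (n := 1) (G := zpowers x')
      (by rw [Nat.card_zpowers, hxo, pow_one])).exists_le_sylow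
    obtain ⟨g, hg⟩ := MulAction.exists_smul_eq Q S R'
    have hmem : g * x' * g⁻¹ ∈ (R' : Subgroup Q) := by
      rw [← hg, smul_sylow_iff, show g⁻¹ * (g * x' * g⁻¹) * g = x' by group]
      exact hS (mem_zpowers _)
    have hmem' : g * x' * g⁻¹ ∈ C y := map_subtype_le (R : Subgroup (C y)) hmem
    refine ⟨g, ?_⟩
    have e1 : C (g * x * g⁻¹) = C (g * x' * g⁻¹) := by
      ext a; rw [mem_conj_C, mem_conj_C, heq]
    rw [e1]
    refine (eq_of_le_of_card_ge (fun a ha => mem_C.2 (hab y hy a ha _ hmem')) ?_).symm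
    rw [card_C_conj, hcard, hy]
  · haveI : Fact l.Prime := ⟨hl⟩
    have hk0 : k ≠ 0 := by rintro rfl; simp at hk; omega
    have hd : l ∣ 2 * r + 1 := hk ▸ dvd_pow_self l hk0
    let Sx : Sylow l Q := (IsPGroup.of_card (hx.trans hk)).toSylow (h.not_dvd_index_T hx hl hd)
    let Sy : Sylow l Q := (IsPGroup.of_card (hy.trans hk)).toSylow (h.not_dvd_index_T hy hl hd)
    obtain ⟨g, hg⟩ := MulAction.exists_smul_eq Q Sx Sy
    refine ⟨g, C_conj_eq g x fun a => ?_⟩
    have := smul_sylow_iff g (g * a * g⁻¹) Sx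
    rw [hg, show g⁻¹ * (g * a * g⁻¹) * g = a by group] at this
    exact this.symm

/-- No element of order `p` normalises a subgroup of odd prime order `l ≠ p`. -/
theorem no_normalised (he : e = 1) (hinv : ∀ g : Q, Nat.card (C g) = 4 * (r + e) → IsInv g) {l : ℕ}
    (hl : l.Prime) (hl2 : l ≠ 2) (hlp : l ≠ p) {y u : Q} (hy : orderOf y = l) (hu : orderOf u = p)
    (hn : u * y * u⁻¹ ∈ zpowers y) : False := by
  haveI : Fact p.Prime := ⟨h.base.hp⟩
  haveI : Fintype Q := Fintype.ofFinite Q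
  have hr := h.hr
  have hu1 : u ≠ 1 := fun e1 => by rw [e1, orderOf_one] at hu; exact h.base.hp.one_lt.ne hu
  have huq : u ^ p ^ m = 1 := h.base.pow_q_of_pow (i := 1) (by rw [pow_one, ← hu, pow_orderOf_eq_one])
  have hyq : y ^ p ^ m ≠ 1 := fun e1 => by
    have h1 := hl.dvd_of_dvd_pow (hy ▸ orderOf_dvd_of_pow_eq_one e1)
    exact hlp ((Nat.prime_dvd_prime_iff_eq hl h.base.hp).1 h1)
  have hCU : C y = C (u * y * u⁻¹) := by
    refine eq_of_le_of_card_ge (fun a ha => ?_) (by rw [card_C_conj])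
    obtain ⟨i, hi⟩ := mem_zpowers_iff.1 hn
    rw [mem_C, ← hi]
    exact (Commute.zpow_right (mem_C.1 ha) i).eq
  have hU : ∀ x ∈ C y, u * x * u⁻¹ ∈ C y := fun x hx => by
    rw [hCU, mem_conj_C, show u⁻¹ * (u * x * u⁻¹) * u = x by group]
    exact hx
  have hfix : ∀ x ∈ C y, u * x = x * u → x = 1 := fun x hx hc => by
    by_contra hx1
    exact hyq (h.base.mem_of_comm (h.base.mem_of_comm huq hu1 (mem_C.2 hc.symm)) hx1 (mem_C_comm.1 hx))
  rcases h.oth y hyq with hT | hH | hM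
  · -- every class of elements with centralisers of order `T` meets `C y` at least three times
    obtain ⟨-, -, hcl, -, -⟩ := h.class_numbers
    set Z := (Finset.univ : Finset Q).filter (fun x => C x = C y) with hZ
    have hZc : ∀ x ∈ Z, Nat.card (C x) = 2 * r + 1 := fun x hx => by
      rw [(Finset.mem_filter.1 hx).2, hT]
    have himg : Z.image ConjClasses.mk = (h.cset (2 * r + 1)).image ConjClasses.mk := by
      refine Finset.Subset.antisymm (Finset.image_subset_image fun x hx =>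
        Finset.mem_filter.2 ⟨Finset.mem_univ _, hZc x hx⟩) fun c hc => ?_
      obtain ⟨x, hx, rfl⟩ := Finset.mem_image.1 hc
      obtain ⟨g, hg⟩ := h.T_conj hT (Finset.mem_filter.1 hx).2
      exact Finset.mem_image.2 ⟨_, Finset.mem_filter.2 ⟨Finset.mem_univ _, hg⟩,
        ConjClasses.mk_eq_mk_iff_isConj.2 (isConj_iff.2 ⟨g, rfl⟩).symm⟩
    have hZconj : ∀ x ∈ Z, u * x * u⁻¹ ∈ Z := fun x hx => by
      refine Finset.mem_filter.2 ⟨Finset.mem_univ _, ?_⟩
      refine C_conj_eq u x fun a => ?_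
      rw [(Finset.mem_filter.1 hx).2]
      refine ⟨hU a, fun ha => ?_⟩
      rw [hCU, mem_conj_C, show u⁻¹ * (u * a * u⁻¹) * u = a by group] at ha
      exact ha
    have hu2 : ∀ x ∈ Z, u * x * u⁻¹ ≠ x ∧ u * (u * x * u⁻¹) * u⁻¹ ≠ x := by
      intro x hx
      have hne : ¬ u ∈ C x := fun hc => by
        have h1 : orderOf u ∣ 2 * r + 1 := by
          rw [← hZc x hx, ← Subgroup.orderOf_mk u hc]
          exact orderOf_dvd_natCard _
        have h2 : p ∣ 4 * r + 2 * e + 1 := h.hq ▸ dvd_pow_self p h.base.m_pos.ne'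
        exact h.base.hp.one_lt.ne' (Nat.eq_one_of_dvd_coprimes h.coprime_T (hu ▸ h1) (h2.mul_right _))
      refine ⟨fun e1 => hne (mem_C.2 (mul_inv_eq_iff_eq_mul.1 e1)), fun e1 => hne ?_⟩
      have h1 : u ^ 2 ∈ C x := mem_C.2 (mul_inv_eq_iff_eq_mul.1 (by
        rw [pow_two, mul_inv_rev]
        simpa [mul_assoc] using e1))
      obtain ⟨t, ht⟩ : Odd p := h.base.hp.odd_of_ne_two h.hp2
      have h3 : u = (u ^ 2) ^ (t + 1) := by
        rw [← pow_mul, show 2 * (t + 1) = p + 1 by omega, pow_succ, ← hu, pow_orderOf_eq_one, one_mul]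
      rw [h3]; exact pow_mem h1 _
    have h3 : 3 * (Z.image ConjClasses.mk).card ≤ Z.card := by
      rw [Finset.card_eq_sum_card_image ConjClasses.mk Z, mul_comm, ← smul_eq_mul]
      refine Finset.card_nsmul_le_sum _ _ _ fun c hc => ?_
      obtain ⟨x, hx, rfl⟩ := Finset.mem_image.1 hc
      obtain ⟨h1, h2⟩ := hu2 x hx
      have hsub : ({x, u * x * u⁻¹, u * (u * x * u⁻¹) * u⁻¹} : Finset Q) ⊆
          Z.filter (fun z => ConjClasses.mk z = ConjClasses.mk x) := by
        intro z hz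
        simp only [Finset.mem_insert, Finset.mem_singleton] at hz
        rcases hz with rfl | rfl | rfl
        · exact Finset.mem_filter.2 ⟨hx, rfl⟩
        · exact Finset.mem_filter.2 ⟨hZconj x hx, ConjClasses.mk_eq_mk_iff_isConj.2 (isConj_iff.2 ⟨u, rfl⟩).symm⟩
        · exact Finset.mem_filter.2 ⟨hZconj _ (hZconj x hx),
            ConjClasses.mk_eq_mk_iff_isConj.2 ((isConj_iff.2 ⟨u, rfl⟩).trans (isConj_iff.2 ⟨u, rfl⟩)).symm⟩
      refine le_trans ?_ (Finset.card_le_card hsub)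
      rw [Finset.card_insert_of_notMem, Finset.card_pair]
      · intro e1
        exact h1 (mul_left_cancel (mul_right_cancel e1)).symm
      · simp only [Finset.mem_insert, Finset.mem_singleton, not_or]
        exact ⟨h1.symm, h2.symm⟩
    have h4 : Z.card + 1 ≤ 2 * r + 1 := by
      have h1Z : (1 : Q) ∉ Z := fun h1 => by
        have := hZc 1 h1
        rw [h.C_one_card] at this
        have := h.card_gt
        omega
      rw [← Finset.card_insert_of_notMem h1Z, ← hT, Nat.card_eq_fintype_card, Fintype.card_subtype]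
      refine Finset.card_le_card fun x hx => Finset.mem_filter.2 ⟨Finset.mem_univ _, ?_⟩
      rcases Finset.mem_insert.1 hx with rfl | hx
      · exact one_mem _
      · exact (Finset.mem_filter.1 hx).2 ▸ self_mem x
    rw [himg] at h3
    have h5 : 3 * r ≤ Z.card := le_of_eq_of_le (congrArg (3 * ·) (by convert hcl.symm)) h3
    omega
  · have h1 := dvd_card_sub_one (C y) (hu ▸ pow_orderOf_eq_one u) hU hfix
    rw [hH] at h1
    have h2 : p ∣ 4 * r + 2 * e + 1 := h.hq ▸ dvd_pow_self p h.base.m_pos.ne'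
    have h3 : p ∣ 2 * r + 1 := by
      have := (Nat.modEq_iff_dvd' (show 1 ≤ 2 * (r + e) by omega)).1 h1.symm
      rwa [show 2 * (r + e) - 1 = 2 * r + 1 by omega] at this
    exact h.base.hp.one_lt.ne' (Nat.eq_one_of_dvd_coprimes h.coprime_T h3 (h2.mul_right _))
  · obtain ⟨-, h2⟩ := hinv y hM
    exact hl2 ((Nat.prime_dvd_prime_iff_eq hl Nat.prime_two).1
      (hy ▸ orderOf_dvd_of_pow_eq_one ((pow_two y).trans h2)))

/-- An involution fixes no nontrivial `p`-element. -/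
theorem inv_fpf {i a : Q} (hi : IsInv i) (ha : a ^ p ^ m = 1) (hc : i * a = a * i) : a = 1 := by
  by_contra h1
  exact h.inv_not_pow hi (h.base.mem_of_comm ha h1 (mem_C.2 hc))

/-- The configuration of a maximal Sylow intersection is impossible. -/
theorem no_intersection (he : e = 1) (hinv : ∀ g : Q, Nat.card (C g) = 4 * (r + e) → IsInv g)
    {P P' : Sylow p Q} (hne : P ≠ P') (hD : (P : Subgroup Q) ⊓ P' ≠ ⊥)
    (hmax : ∀ R R' : Sylow p Q, R ≠ R' →
      Nat.card ((R : Subgroup Q) ⊓ R' : Subgroup Q) ≤ Nat.card ((P : Subgroup Q) ⊓ P' : Subgroup Q)) : False := by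
  haveI : Fact p.Prime := ⟨h.base.hp⟩
  set D := (P : Subgroup Q) ⊓ P' with hDdef
  have hDp : ∀ x ∈ D, x ^ p ^ m = 1 := fun x hx => h.base.sylow_pow P hx.1
  obtain ⟨d, hdD, hd1⟩ := D.bot_or_exists_ne_one.resolve_left hD
  let N : Subgroup Q := normalizer (D : Set Q)
  have hDN : D ≤ N := le_normalizer
  have hmove : ∀ R : Sylow p Q, D < R → ∃ a ∈ (R : Subgroup Q), a ∉ D ∧ a ∈ N := by
    intro R hR
    haveI := R.2.isNilpotent
    have hlt : D.subgroupOf R < ⊤ := lt_top_iff_ne_top.2 fun e1 => hR.ne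
      (le_antisymm hR.le (subgroupOf_eq_top.1 e1))
    have h1 := Group.normalizerCondition_of_isNilpotent (G := R) _ hlt
    obtain ⟨⟨a, haR⟩, han, haD⟩ := SetLike.exists_of_lt h1
    refine ⟨a, haR, fun hh => haD (mem_subgroupOf.2 hh), mem_normalizer_iff.2 fun n => ⟨fun hn => ?_, fun hn => ?_⟩⟩
    · exact mem_subgroupOf.1 ((mem_normalizer_iff.1 han ⟨n, hR.le hn⟩).1 (mem_subgroupOf.2 hn))
    · have hnR : n ∈ (R : Subgroup Q) := by
        have := mul_mem (mul_mem (inv_mem haR) (hR.le hn)) haR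
        simpa [mul_assoc] using this
      exact mem_subgroupOf.1 ((mem_normalizer_iff.1 han ⟨n, hnR⟩).2 (mem_subgroupOf.2 hn))
  have hDlt : D < P := lt_of_le_of_ne inf_le_left fun e1 => hne (Sylow.ext (eq_of_le_of_card_ge
    (inf_eq_left.1 e1) (by rw [h.base.sylow_card, h.base.sylow_card])))
  have hDlt' : D < P' := lt_of_le_of_ne inf_le_right fun e1 => hne (Sylow.ext (eq_of_le_of_card_ge
    (inf_eq_right.1 e1) (by rw [h.base.sylow_card, h.base.sylow_card])).symm)
  obtain ⟨a, haP, haD, haN⟩ := hmove P hDlt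
  obtain ⟨a', haP', haD', haN'⟩ := hmove P' hDlt'
  have huniq : ∀ (R R' : Sylow p Q) (z : Q), D ≤ (R : Subgroup Q) → D ≤ (R' : Subgroup Q) →
      z ∈ (R : Subgroup Q) → z ∈ (R' : Subgroup Q) → z ∉ D → R = R' := by
    intro R R' z h1 h2 h3 h4 h5
    by_contra hne'
    have hlt : D < (R : Subgroup Q) ⊓ R' := SetLike.lt_iff_le_and_exists.2 ⟨le_inf h1 h2, z, mem_inf.2 ⟨h3, h4⟩, h5⟩
    exact absurd (hmax R R' hne') (not_le.2 (lt_of_not_ge fun hge => hlt.ne
      (eq_of_le_of_card_ge hlt.le hge)))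
  -- the largest normal `p`-subgroup of the normaliser is `D`
  have hcore : ∀ R : Subgroup N, R.Normal → IsPGroup p R → R.map N.subtype ≤ D := by
    intro R hRn hRp
    have key : ∀ (P0 : Sylow p Q) (z : Q), D ≤ (P0 : Subgroup Q) → z ∈ (P0 : Subgroup Q) → z ∉ D →
        z ∈ N → R.map N.subtype ≤ (P0 : Subgroup Q) := by
      intro P0 z h1 h2 h3 h4
      have hS : IsPGroup p (((P0 : Subgroup Q).subgroupOf N : Subgroup N)) :=
        P0.2.comap_of_injective N.subtype N.subtype_injective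
      obtain ⟨S, hS'⟩ := hS.exists_le_sylow
      obtain ⟨P1, hP1⟩ := (S.2.map N.subtype).exists_le_sylow
      have hP1D : D ≤ (P1 : Subgroup Q) := fun x hx =>
        hP1 ⟨⟨x, hDN hx⟩, hS' (mem_subgroupOf.2 (h1 hx)), rfl⟩
      have : P1 = P0 := huniq P1 P0 z hP1D h1 (hP1 ⟨⟨z, h4⟩, hS' (mem_subgroupOf.2 h2), rfl⟩) h2 h3
      refine this ▸ le_trans (map_mono ?_) hP1
      haveI := hRn
      obtain ⟨S0, hS0⟩ := hRp.exists_le_sylow
      obtain ⟨g, hg⟩ := MulAction.exists_smul_eq N S0 S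
      intro x hx
      rw [← hg, smul_sylow_iff]
      exact hS0 (by simpa using hRn.conj_mem x hx g⁻¹)
    exact le_inf (key P a inf_le_left haP haD haN) (key P' a' inf_le_right haP' haD' haN')
  have hCD : ∀ z : Q, z ∈ N → (∀ x ∈ D, z * x = x * z) → z ∈ D := by
    intro z hzN hz
    let R : Subgroup N := (centralizer (D : Set Q)).subgroupOf N
    have hRn : R.Normal := ⟨fun n hn g => by
      rw [mem_subgroupOf, mem_centralizer_iff] at hn ⊢
      intro x hx
      have h1 := hn ((g : Q)⁻¹ * x * g) (by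
        have h2 := (mem_normalizer_iff.1 g.2 ((g : Q)⁻¹ * x * g)).2
          (by rwa [show (g : Q) * ((g : Q)⁻¹ * x * g) * (g : Q)⁻¹ = x by group])
        exact h2)
      show x * ((g : Q) * n * (g : Q)⁻¹) = (g : Q) * n * (g : Q)⁻¹ * x
      calc x * ((g : Q) * n * (g : Q)⁻¹) = (g : Q) * ((g : Q)⁻¹ * x * g * n) * (g : Q)⁻¹ := by group
        _ = _ := by rw [h1]; group⟩
    have hRp : IsPGroup p R := fun ⟨⟨w, hw⟩, hwR⟩ => by
      refine ⟨m, Subtype.ext (Subtype.ext ?_)⟩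
      show w ^ p ^ m = 1
      exact h.base.mem_of_comm (hDp d hdD) hd1 (mem_C.2 (mem_centralizer_iff.1 (mem_subgroupOf.1 hwR) d hdD).symm)
    exact hcore R hRn hRp ⟨⟨z, hzN⟩, mem_subgroupOf.2 (mem_centralizer_iff.2 fun x hx => (hz x hx).symm), rfl⟩
  by_cases hev : 2 ∣ Nat.card N
  · haveI : Fact (Nat.Prime 2) := ⟨Nat.prime_two⟩
    obtain ⟨⟨i, hiN⟩, hio⟩ := exists_prime_orderOf_dvd_card' 2 hev
    rw [Subgroup.orderOf_mk] at hio
    have hi : IsInv i := ⟨fun e1 => by simp [e1] at hio, by rw [← pow_two, ← hio, pow_orderOf_eq_one]⟩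
    have hi' : IsInv (a * i * a⁻¹) := inv_conj hi a
    have hiN' : a * i * a⁻¹ ∈ N := mul_mem (mul_mem haN hiN) (inv_mem haN)
    have hinvD : ∀ j : Q, IsInv j → j ∈ N → ∀ x ∈ D, j * x * j⁻¹ = x⁻¹ := fun j hj hjN x hx =>
      inverts_of_free hj hjN (fun w hw hc => h.inv_fpf hj (hDp w hw) hc) hx
    have hz : i * (a * i * a⁻¹) ∈ D := hCD _ (mul_mem hiN hiN') fun x hx => by
      refine mul_inv_eq_iff_eq_mul.1 ?_
      rw [mul_inv_rev, show i * (a * i * a⁻¹) * x * ((a * i * a⁻¹)⁻¹ * i⁻¹) =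
        i * ((a * i * a⁻¹) * x * (a * i * a⁻¹)⁻¹) * i⁻¹ by group, hinvD _ hi' hiN' x hx,
        hinvD i hi hiN _ (inv_mem hx), inv_inv]
    let R : Subgroup Q := D ⊔ zpowers a
    have hRP : R ≤ (P : Subgroup Q) := sup_le inf_le_left (zpowers_le.2 haP)
    have hia : i * a * i⁻¹ ∈ R := by
      rw [inv_inv_eq hi, show i * a * i = i * (a * i * a⁻¹) * a by group]
      exact mul_mem (mem_sup_left hz) (mem_sup_right (mem_zpowers a))
    have hiR : ∀ x ∈ R, i * x * i⁻¹ ∈ R := by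
      have : R ≤ R.comap (MulAut.conj i).toMonoidHom := by
        refine sup_le (fun x hx => ?_) (zpowers_le.2 hia)
        show i * x * i⁻¹ ∈ R
        rw [hinvD i hi hiN x hx]
        exact mem_sup_left (inv_mem hx)
      exact fun x hx => this hx
    have hiRN : i ∈ normalizer (R : Set Q) := mem_normalizer_iff.2 fun n => ⟨hiR n, fun hn => by
      have := hiR _ hn
      rwa [inv_inv_eq hi, show i * (i * n * i) * i = (i * i) * n * (i * i) by group, hi.2, one_mul, mul_one] at this⟩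
    have hia' := inverts_of_free hi hiRN (fun w hw hc => h.inv_fpf hi (h.base.sylow_pow P (hRP hw)) hc)
      (mem_sup_right (mem_zpowers a) : a ∈ R)
    have ha2 : a ^ 2 ∈ D := by
      rw [inv_inv_eq hi, show i * a * i = i * (a * i * a⁻¹) * a by group] at hia'
      have h1 : i * (a * i * a⁻¹) = (a ^ 2)⁻¹ := by
        rw [eq_mul_inv_of_mul_eq hia', pow_two, mul_inv_rev]
      rw [h1] at hz
      exact inv_mem_iff.1 hz
    obtain ⟨t, ht⟩ : Odd (p ^ m) := (h.base.hp.odd_of_ne_two h.hp2).pow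
    have h3 : a = (a ^ 2) ^ (t + 1) := by
      rw [← pow_mul, show 2 * (t + 1) = p ^ m + 1 by omega, pow_succ, h.base.sylow_pow P haP, one_mul]
    exact haD (h3 ▸ pow_mem ha2 _)
  · let D' : Subgroup N := D.subgroupOf N
    haveI : D'.Normal := Subgroup.normal_in_normalizer
    have hD'p : IsPGroup p D' := fun ⟨x, hx⟩ => ⟨m, Subtype.ext (Subtype.ext (hDp x hx))⟩
    let K := N ⧸ D'
    let π : N →* K := QuotientGroup.mk' D'
    have haK : π ⟨a, haN⟩ ≠ 1 := fun e1 => haD (mem_subgroupOf.1 ((QuotientGroup.eq_one_iff _).1 e1))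
    haveI : Nontrivial K := ⟨⟨_, 1, haK⟩⟩
    have hodd : Odd (Nat.card K) := by
      rw [Nat.odd_iff]
      by_contra hh
      exact hev ((Nat.dvd_of_mod_eq_zero (show Nat.card K % 2 = 0 by omega)).trans (card_quotient_dvd_card D'))
    obtain ⟨B, hBn, hB, hBc⟩ := exists_abelian_normal (CfsgLib.FT.isSolvable_of_odd K hodd)
    obtain ⟨l, hl, hld⟩ := Nat.exists_prime_and_dvd (show Nat.card B ≠ 1 by rwa [Ne, card_eq_one])
    haveI : Fact l.Prime := ⟨hl⟩
    let Bl : Subgroup K :=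
      { carrier := {b | b ∈ B ∧ b ^ l = 1}
        one_mem' := ⟨one_mem _, one_pow _⟩
        mul_mem' := fun {x y} hx hy => ⟨mul_mem hx.1 hy.1, by
          rw [Commute.mul_pow (hBc x hx.1 y hy.1), hx.2, hy.2, one_mul]⟩
        inv_mem' := fun {x} hx => ⟨inv_mem hx.1, by rw [inv_pow, hx.2, inv_one]⟩ }
    haveI : Bl.Normal := ⟨fun b hb g => ⟨hBn.conj_mem b hb.1 g, by rw [conj_pow, hb.2, mul_one, mul_inv_cancel]⟩⟩
    obtain ⟨⟨b, hbB⟩, hbo⟩ := exists_prime_orderOf_dvd_card' l hld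
    rw [Subgroup.orderOf_mk] at hbo
    have hbl : b ∈ Bl := ⟨hbB, hbo ▸ pow_orderOf_eq_one b⟩
    have hBlp : IsPGroup l Bl := fun ⟨x, hx⟩ => ⟨1, Subtype.ext (by
      show x ^ l ^ 1 = 1
      rw [pow_one]; exact hx.2)⟩
    have hlp : l ≠ p := by
      rintro rfl
      have h1 : IsPGroup l (Bl.comap π) := hBlp.comap_of_ker_isPGroup π (by rw [QuotientGroup.ker_mk']; exact hD'p)
      obtain ⟨n, rfl⟩ := QuotientGroup.mk'_surjective D' b
      have h2 : n ∈ D' := mem_subgroupOf.2 (hcore _ inferInstance h1 ⟨n, hbl, rfl⟩)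
      rw [show QuotientGroup.mk' D' n = 1 from (QuotientGroup.eq_one_iff n).2 h2, orderOf_one] at hbo
      exact hl.one_lt.ne hbo
    have hl2 : l ≠ 2 := by
      rintro rfl
      exact (Nat.not_even_iff_odd.2 hodd) (even_iff_two_dvd.2 (hld.trans (card_subgroup_dvd_card B)))
    let L : Subgroup N := Bl.comap π
    haveI : L.Normal := inferInstance
    obtain ⟨L0⟩ : Nonempty (Sylow l L) := inferInstance
    have hfrat := Sylow.normalizer_sup_eq_top L0
    set N0 : Subgroup N := normalizer (((L0 : Subgroup L).map L.subtype : Subgroup N) : Set N) with hN0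
    have hm : (⟨a, haN⟩ : N) ∈ N0 ⊔ L := by rw [hfrat]; exact mem_top _
    obtain ⟨n, hn, x, hx, hnx⟩ := Subgroup.mem_sup_of_normal_right.1 hm
    have hao : orderOf (⟨a, haN⟩ : N) ∣ p ^ m := orderOf_dvd_of_pow_eq_one
      (Subtype.ext (h.base.sylow_pow P haP))
    have hpn : p ∣ orderOf n := by
      let ρ : N →* N ⧸ L := QuotientGroup.mk' L
      have h1 : ρ n = ρ ⟨a, haN⟩ := by
        rw [← hnx, map_mul, show ρ x = 1 from (QuotientGroup.eq_one_iff x).2 hx, mul_one]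
      have h2 : ρ ⟨a, haN⟩ ≠ 1 := fun e1 => by
        have h3 : π ⟨a, haN⟩ ∈ Bl := mem_comap.1 ((QuotientGroup.eq_one_iff (N := L) _).1 e1)
        have h4 := Nat.dvd_gcd ((orderOf_map_dvd π _).trans hao) (orderOf_dvd_of_pow_eq_one h3.2)
        rw [((Nat.coprime_primes h.base.hp hl).2 hlp.symm).pow_left m] at h4
        exact haK (orderOf_eq_one_iff.1 (Nat.dvd_one.1 h4))
      obtain ⟨j, -, hj⟩ := (Nat.dvd_prime_pow h.base.hp).1 ((orderOf_map_dvd ρ _).trans hao)
      have hj0 : j ≠ 0 := fun e1 => h2 (orderOf_eq_one_iff.1 (by rw [hj, e1, pow_zero]))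
      exact ((hj ▸ dvd_pow_self p hj0 : p ∣ orderOf (ρ ⟨a, haN⟩))).trans (h1 ▸ orderOf_map_dvd ρ n)
    set u : N := n ^ (orderOf n / p)
    have huo : orderOf (u : Q) = p := by
      rw [Subgroup.orderOf_coe, orderOf_pow_orderOf_div (orderOf_pos n).ne' hpn]
    have huN0 : u ∈ N0 := pow_mem hn _
    -- the Sylow subgroup is elementary abelian
    have hL0 : ∀ z : L, z ∈ (L0 : Subgroup L) → (z : N) ∈ D' → z = 1 := fun z hz hzD => by
      obtain ⟨i, hi⟩ := L0.2 ⟨z, hz⟩
      have h1 : orderOf (z : N) ∣ l ^ i := orderOf_dvd_of_pow_eq_one (by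
        have := congrArg (fun w : (L0 : Subgroup L) => ((w : L) : N)) hi
        simpa using this)
      obtain ⟨j, hj⟩ := hD'p ⟨_, hzD⟩
      have h2 : orderOf (z : N) ∣ p ^ j := orderOf_dvd_of_pow_eq_one (by simpa using congrArg Subtype.val hj)
      exact Subtype.ext (orderOf_eq_one_iff.1 (Nat.eq_one_of_dvd_coprimes
        (((Nat.coprime_primes hl h.base.hp).2 hlp).pow i j) h1 h2))
    have hL0pow : ∀ z ∈ (L0 : Subgroup L), z ^ l = 1 := fun z hz => hL0 _ (pow_mem hz l) (by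
      refine (QuotientGroup.eq_one_iff _).1 ?_
      rw [Subgroup.coe_pow, QuotientGroup.mk_pow]
      exact (z.2 : π (z : N) ∈ Bl).2)
    have hL0comm : ∀ z ∈ (L0 : Subgroup L), ∀ w ∈ (L0 : Subgroup L), z * w = w * z := fun z hz w hw => by
      refine commutatorElement_eq_one_iff_mul_comm.1 (hL0 _ ?_ ?_)
      · rw [commutatorElement_def]; exact mul_mem (mul_mem (mul_mem hz hw) (inv_mem hz)) (inv_mem hw)
      · refine (QuotientGroup.eq_one_iff _).1 ?_
        show π (L.subtype ⁅z, w⁆) = 1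
        rw [map_commutatorElement, map_commutatorElement]
        exact commutatorElement_eq_one_iff_mul_comm.2
          (hBc _ (z.2 : π (z : N) ∈ Bl).1 _ (w.2 : π (w : N) ∈ Bl).1)
    let A : Subgroup Q := ((L0 : Subgroup L).map L.subtype).map N.subtype
    have hAmem : ∀ z ∈ A, ∃ w : L, w ∈ (L0 : Subgroup L) ∧ ((w : N) : Q) = z := by
      rintro z ⟨_, ⟨w, hw, rfl⟩, rfl⟩
      exact ⟨w, hw, rfl⟩
    have hAc : IsMulCommutative A := ⟨⟨fun ⟨z, hz⟩ ⟨w, hw⟩ => by
      obtain ⟨z', hz', rfl⟩ := hAmem z hz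
      obtain ⟨w', hw', rfl⟩ := hAmem w hw
      exact Subtype.ext (congrArg (fun t : L => ((t : N) : Q)) (hL0comm z' hz' w' hw'))⟩⟩
    have hApow : ∀ z ∈ A, z ^ l = 1 := fun z hz => by
      obtain ⟨z', hz', rfl⟩ := hAmem z hz
      exact congrArg (fun t : L => ((t : N) : Q)) (hL0pow z' hz')
    have hA1 : A ≠ ⊥ := by
      intro e1
      have h1 : Nat.card A = Nat.card (L0 : Subgroup L) := by
        rw [card_map_of_injective N.subtype_injective, card_map_of_injective L.subtype_injective]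
      rw [e1, Subgroup.card_bot] at h1
      have h2 : l ∣ Nat.card L := by
        obtain ⟨n', hn'⟩ := QuotientGroup.mk'_surjective D' b
        have h3 : orderOf n' ∣ Nat.card L :=
          Subgroup.orderOf_dvd_natCard L (mem_comap.2 (hn'.symm ▸ hbl : π n' ∈ Bl))
        have h4 := (orderOf_map_dvd π n').trans h3
        rwa [show π n' = b from hn', hbo] at h4
      exact hl.one_lt.ne' (Nat.dvd_one.1 (h1 ▸ L0.dvd_card_of_dvd_card h2))
    let V : Subgroup Q := (center D).map D.subtype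
    haveI : IsMulCommutative V := ⟨⟨fun ⟨z, hz⟩ ⟨w, hw⟩ => by
      obtain ⟨z', hz', rfl⟩ := hz
      obtain ⟨w', hw', rfl⟩ := hw
      exact Subtype.ext (congrArg (fun t : D => (t : Q)) (mem_center_iff.1 hw' z'))⟩⟩
    have hV : V ≠ ⊥ := by
      have hDpg : IsPGroup p D := fun ⟨x, hx⟩ => ⟨m, Subtype.ext (hDp x hx)⟩
      haveI : Nontrivial D := (Subgroup.nontrivial_iff_ne_bot _).2 hD
      haveI := hDpg.center_nontrivial
      exact fun e1 => (Subgroup.nontrivial_iff_ne_bot _).1 ‹Nontrivial (center D)›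
        ((map_eq_bot_iff_of_injective _ D.subtype_injective).1 e1)
    have hVD : V ≤ D := map_subtype_le _
    have hAV : A ≤ normalizer (V : Set Q) := by
      rintro z ⟨g, -, rfl⟩
      have key : ∀ g : N, ∀ v ∈ V, (g : Q) * v * (g : Q)⁻¹ ∈ V := by
        rintro g _ ⟨v, hv, rfl⟩
        have hgv : (g : Q) * (v : Q) * (g : Q)⁻¹ ∈ D := (mem_normalizer_iff.1 g.2 _).1 v.2
        refine ⟨⟨_, hgv⟩, mem_center_iff.2 fun x => Subtype.ext ?_, rfl⟩
        have hx : (g : Q)⁻¹ * (x : Q) * g ∈ D := (mem_normalizer_iff.1 g.2 _).2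
          (by rw [show (g : Q) * ((g : Q)⁻¹ * (x : Q) * g) * (g : Q)⁻¹ = x by group]; exact x.2)
        have h1 : (g : Q)⁻¹ * (x : Q) * g * v = v * ((g : Q)⁻¹ * (x : Q) * g) :=
          congrArg Subtype.val (mem_center_iff.1 hv ⟨_, hx⟩)
        show (x : Q) * ((g : Q) * v * (g : Q)⁻¹) = (g : Q) * v * (g : Q)⁻¹ * x
        calc (x : Q) * ((g : Q) * v * (g : Q)⁻¹) = (g : Q) * ((g : Q)⁻¹ * x * g * v) * (g : Q)⁻¹ := by group
          _ = _ := by rw [h1]; group
      refine mem_normalizer_iff.2 fun v => ⟨key g v, fun hv => ?_⟩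
      have := key g⁻¹ _ hv
      simpa [mul_assoc] using this
    have hcyc : IsCyclic A := Cfsg.Agent.S0041.result A V hV hAV (fun z hz hz1 => by
      refine eq_bot_iff.2 fun v hv => mem_bot.2 ?_
      by_contra hv1
      have h1 := h.base.mem_of_comm (hDp v (hVD hv.1)) hv1 (mem_C.2 (mem_C.1 hv.2).symm)
      have h2 := Nat.dvd_gcd (orderOf_dvd_of_pow_eq_one h1) (orderOf_dvd_of_pow_eq_one (hApow z hz))
      rw [((Nat.coprime_primes h.base.hp hl).2 hlp.symm).pow_left m] at h2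
      exact hz1 (orderOf_eq_one_iff.1 (Nat.dvd_one.1 h2))) (Or.inl hAc)
    obtain ⟨⟨y, hyA⟩, hgen⟩ := hcyc.exists_generator
    have hAy : A = zpowers y := le_antisymm (fun z hz => by
      obtain ⟨i, hi⟩ := mem_zpowers_iff.1 (hgen ⟨z, hz⟩)
      exact ⟨i, congrArg Subtype.val hi⟩) (zpowers_le.2 hyA)
    have hy : orderOf y = l := orderOf_eq_prime (hApow y hyA) fun e1 => hA1 (by rw [hAy, e1, zpowers_one_eq_bot])
    refine h.no_normalised he hinv hl hl2 hlp hy huo ?_
    rw [← hAy]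
    obtain ⟨_, hw', e1⟩ := hyA
    refine ⟨_, (mem_normalizer_iff.1 huN0 _).1 hw', ?_⟩
    simp [← e1]

/-- The Sylow `p`-subgroups are abelian. -/
theorem sylow_comm (P : Sylow p Q) : ∀ a ∈ (P : Subgroup Q), ∀ b ∈ (P : Subgroup Q), a * b = b * a := by
  haveI : Fact p.Prime := ⟨h.base.hp⟩
  by_cases hA : ∃ i : Q, IsInv i ∧ ∃ P : Sylow p Q, i ∈ normalizer ((P : Subgroup Q) : Set Q)
  · obtain ⟨i, hi, P0, hN⟩ := hA
    have key : ∀ a ∈ (P0 : Subgroup Q), ∀ b ∈ (P0 : Subgroup Q), a * b = b * a := by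
      have hv := fun x hx => inverts_of_free hi hN (fun w hw hc => h.inv_fpf hi (h.base.sylow_pow P0 hw) hc)
        (a := x) hx
      intro a ha b hb
      refine inv_injective ?_
      rw [← hv _ (mul_mem ha hb), mul_inv_rev b a, ← hv a ha, ← hv b hb]
      group
    obtain ⟨g, rfl⟩ := MulAction.exists_smul_eq Q P0 P
    intro a ha b hb
    have := key _ ((smul_sylow_iff g a P0).1 ha) _ ((smul_sylow_iff g b P0).1 hb)
    calc a * b = g * (g⁻¹ * a * g * (g⁻¹ * b * g)) * g⁻¹ := by group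
      _ = b * a := by rw [this]; group
  · simp only [not_exists, not_and] at hA
    obtain ⟨he, hinv⟩ := h.no_normalising hA
    intro a ha b hb
    by_contra hne
    have ha1 : a ≠ 1 := fun e1 => hne (by simp [e1])
    have hcard := h.base.cent a ha1 (h.base.sylow_pow P ha)
    obtain ⟨P1, hP1⟩ := (IsPGroup.of_card hcard).exists_le_sylow
    have hPC : C a = (P1 : Subgroup Q) := eq_of_le_of_card_ge hP1 (by rw [hcard]; exact (h.base.sylow_card P1).le)
    have hne' : P ≠ P1 := fun e1 => hne (by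
      have : b ∈ C a := hPC ▸ e1 ▸ hb
      exact (mem_C.1 this).symm)
    haveI : Fintype (Sylow p Q) := Fintype.ofFinite _
    obtain ⟨⟨R, R'⟩, hR, hmax⟩ := Finset.exists_max_image
      ((Finset.univ : Finset (Sylow p Q × Sylow p Q)).filter fun w => w.1 ≠ w.2)
      (fun w => Nat.card ((w.1 : Subgroup Q) ⊓ w.2 : Subgroup Q)) ⟨(P, P1), by simp [hne']⟩
    simp only [Finset.mem_filter, Finset.mem_univ, true_and] at hR hmax
    refine h.no_intersection he hinv hR (fun e1 => ?_) fun S S' hS => hmax (S, S') hS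
    have h1 := hmax (P, P1) hne'
    have h2 : (P : Subgroup Q) ⊓ P1 ≠ ⊥ := fun e2 =>
      ha1 (Subgroup.mem_bot.1 (e2 ▸ mem_inf.2 ⟨ha, hPC ▸ self_mem a⟩))
    simp only [e1, Subgroup.card_bot] at h1
    exact h2 ((Subgroup.card_le_one_iff_eq_bot _).1 h1)

end OData

end CfsgLib.Char.PslSizes
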