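import Cfsg.Agent.Lib.Char.PslClassSizes.Count
import Mathlib.GroupTheory.FixedPointFree
import Mathlib.Tactic.IntervalCases

/-!
# Involution pairs in the odd case
-/

set_option autoImplicit false
set_option linter.unusedSectionVars false
set_option linter.style.haveILetI false

namespace CfsgLib.Char.PslSizes

open Subgroup
open scoped Classical

variable {Q : Type*} [Group Q] [Finite Q]

/-- The hypotheses on the central quotient for `q = 4 r + 2 e + 1`. -/
structure OData (Q : Type*) [Group Q] (p m r e : ℕ) : Prop where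
  base : PData Q p m ((2 * r + 1) * (4 * (r + e))) 2
  he : e ≤ 1
  hr : 1 ≤ r
  hr0 : e = 0 → 2 ≤ r
  hq : p ^ m = 4 * r + 2 * e + 1
  oth : ∀ x : Q, x ^ p ^ m ≠ 1 → Nat.card (C x) = 2 * r + 1 ∨ Nat.card (C x) = 2 * (r + e) ∨
    Nat.card (C x) = 4 * (r + e)
  tcase : (∀ x : Q, Nat.card (C x) = 2 * r + 1 → ∀ a ∈ C x, ∀ b ∈ C x, a * b = b * a) ∨
    ∃ l k, l.Prime ∧ 2 * r + 1 = l ^ k

/-- Involutions. -/
def IsInv (i : Q) : Prop := i ≠ 1 ∧ i * i = 1

theorem inv_conj {i : Q} (hi : IsInv i) (g : Q) : IsInv (g * i * g⁻¹) :=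
  ⟨fun e => hi.1 (conj_eq_one_iff.1 e), by
    rw [show g * i * g⁻¹ * (g * i * g⁻¹) = g * (i * i) * g⁻¹ by group, hi.2, mul_one, mul_inv_cancel]⟩

theorem inv_inv_eq {i : Q} (hi : IsInv i) : i⁻¹ = i := inv_eq_of_mul_eq_one_right hi.2

theorem card_C_conj (g x : Q) : Nat.card (C (g * x * g⁻¹)) = Nat.card (C x) := by
  have h1 := card_mul_index (C (g * x * g⁻¹))
  rw [show (C (g * x * g⁻¹)).index = (C x).index from cs_conj g x, ← card_mul_index (C x)] at h1
  exact Nat.eq_of_mul_eq_mul_right (Nat.pos_of_ne_zero (cs_ne_zero x)) h1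

/-- A subgroup containing no element of `H` except a fixed-point-free involution inverts it. -/
theorem inverts_of_free {A : Subgroup Q} {v : Q} (hv : IsInv v) (hvA : v ∈ normalizer (A : Set Q))
    (hfix : ∀ a ∈ A, v * a = a * v → a = 1) {a : Q} (ha : a ∈ A) : v * a * v⁻¹ = a⁻¹ := by
  let φ : A →* A := MonoidHom.mk' (fun u => ⟨v * u * v⁻¹, (mem_normalizer_iff.1 hvA u).1 u.2⟩)
    fun x y => Subtype.ext (by simp [mul_assoc])
  have hfp : MonoidHom.FixedPointFree φ := fun u hu =>
    Subtype.ext (hfix u u.2 (mul_inv_eq_iff_eq_mul.1 (congrArg Subtype.val hu)))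
  have hii : Function.Involutive φ := fun u => Subtype.ext (by
    show v * (v * u * v⁻¹) * v⁻¹ = u
    rw [inv_inv_eq hv]
    calc v * (v * (u : Q) * v) * v = (v * v) * u * (v * v) := by group
      _ = u := by rw [hv.2, one_mul, mul_one])
  exact congrArg Subtype.val (congrFun (hfp.coe_eq_inv_of_involutive hii) ⟨a, ha⟩)

namespace OData

variable {p m r e : ℕ} (h : OData Q p m r e)
include h

theorem hp2 : p ≠ 2 := fun e2 => by
  have h1 : 2 ∣ p ^ m := by rw [e2]; exact dvd_pow_self 2 h.base.m_pos.ne'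
  have := h.hq
  omega

theorem card_Q : Nat.card Q = (4 * r + 2 * e + 1) * ((2 * r + 1) * (4 * (r + e))) := by
  rw [h.base.card, h.hq]

theorem card_gt : 4 * (r + e) < Nat.card Q ∧ 4 * r + 2 * e + 1 < Nat.card Q := by
  have hr := h.hr
  rw [h.card_Q]
  have h1 : 5 ≤ 4 * r + 2 * e + 1 := by omega
  have h2 : 12 ≤ (2 * r + 1) * (4 * (r + e)) := Nat.mul_le_mul (show 3 ≤ 2 * r + 1 by omega) (show 4 ≤ 4 * (r + e) by omega)
  constructor
  · calc 4 * (r + e) < 5 * ((2 * r + 1) * (4 * (r + e))) := by nlinarith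
      _ ≤ _ := Nat.mul_le_mul_right _ h1
  · calc 4 * r + 2 * e + 1 = (4 * r + 2 * e + 1) * 1 := (mul_one _).symm
      _ < _ := Nat.mul_lt_mul_of_pos_left (by omega) (by omega)

theorem inv_not_pow {i : Q} (hi : IsInv i) : i ^ p ^ m ≠ 1 := by
  rw [h.hq, show 4 * r + 2 * e + 1 = 2 * (2 * r + e) + 1 by ring, pow_succ, pow_mul, pow_two, hi.2, one_pow,
    one_mul]
  exact hi.1

theorem inv_cent {i : Q} (hi : IsInv i) : Nat.card (C i) = 2 * (r + e) ∨ Nat.card (C i) = 4 * (r + e) := by
  rcases h.oth i (h.inv_not_pow hi) with h1 | h1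
  · exfalso
    have h2 : orderOf i ∣ Nat.card (C i) := by
      rw [← Subgroup.orderOf_mk i (self_mem i)]
      exact orderOf_dvd_natCard _
    rw [orderOf_eq_prime ((pow_two i).trans hi.2) hi.1, h1] at h2
    omega
  · exact h1

theorem exists_inv_full : ∃ i : Q, IsInv i ∧ Nat.card (C i) = 4 * (r + e) := by
  haveI : Fact (Nat.Prime 2) := ⟨Nat.prime_two⟩
  obtain ⟨S⟩ : Nonempty (Sylow 2 Q) := inferInstance
  have h2d : 2 ∣ Nat.card Q := by rw [h.card_Q]; exact ⟨(4 * r + 2 * e + 1) * ((2 * r + 1) * (2 * (r + e))), by ring⟩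
  have hS1 : (S : Subgroup Q) ≠ ⊥ := by
    intro h0
    have := S.not_dvd_index
    rw [h0, index_bot] at this
    exact this h2d
  haveI : Nontrivial (S : Subgroup Q) := (Subgroup.nontrivial_iff_ne_bot _).2 hS1
  haveI := S.2.center_nontrivial
  obtain ⟨k, hk⟩ := IsPGroup.iff_card.1 (S.2.to_subgroup (center (S : Subgroup Q)))
  have hk0 : k ≠ 0 := fun e0 => absurd (Finite.one_lt_card (α := center (S : Subgroup Q)))
    (by rw [hk, e0, pow_zero]; exact lt_irrefl 1)
  obtain ⟨⟨⟨i, hiS⟩, hic⟩, hio⟩ := exists_prime_orderOf_dvd_card' (G := center (S : Subgroup Q)) 2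
    (hk ▸ dvd_pow_self 2 hk0)
  rw [Subgroup.orderOf_mk, Subgroup.orderOf_mk] at hio
  have hi : IsInv i := ⟨fun e1 => by simp [e1] at hio, by rw [← pow_two, ← hio, pow_orderOf_eq_one]⟩
  refine ⟨i, hi, (h.inv_cent hi).resolve_left fun hH => ?_⟩
  have hle : (S : Subgroup Q) ≤ C i := fun a ha => mem_C.2
    (congrArg Subtype.val (mem_center_iff.1 hic ⟨a, ha⟩))
  obtain ⟨u, hu⟩ := card_dvd_of_le hle
  rw [hH] at hu
  have h1 := card_mul_index (S : Subgroup Q)
  rw [h.card_Q, show (4 * (r + e)) = 2 * (2 * (r + e)) by ring, hu] at h1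
  refine S.not_dvd_index ⟨(4 * r + 2 * e + 1) * ((2 * r + 1) * u), ?_⟩
  refine Nat.eq_of_mul_eq_mul_left (Nat.card_pos (α := (S : Subgroup Q))) ?_
  rw [h1]
  ring

/-- Elements with a given centraliser order. -/
noncomputable def cset [Fintype Q] (_ : OData Q p m r e) (c : ℕ) : Finset Q :=
  Finset.univ.filter fun x => Nat.card (C x) = c

theorem card_cset [Fintype Q] (c : ℕ) :
    (h.cset c).card * c = ((h.cset c).image ConjClasses.mk).card * Nat.card Q :=
  card_classes (h.cset c) (fun g x hx => by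
    simp only [cset, Finset.mem_filter, Finset.mem_univ, true_and] at hx ⊢
    rw [card_C_conj, hx]) c fun x hx => (Finset.mem_filter.1 hx).2

theorem C_one_card : Nat.card (C (1 : Q)) = Nat.card Q := by
  rw [show C (1 : Q) = ⊤ from eq_top_iff.2 fun x _ => mem_C.2 (by simp)]
  exact Subgroup.card_top

theorem card_five (x : Q) : (x = 1 ∧ Nat.card (C x) = Nat.card Q) ∨
    (x ≠ 1 ∧ x ^ p ^ m = 1 ∧ Nat.card (C x) = 4 * r + 2 * e + 1) ∨
    (x ^ p ^ m ≠ 1 ∧ (Nat.card (C x) = 2 * r + 1 ∨ Nat.card (C x) = 2 * (r + e) ∨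
    Nat.card (C x) = 4 * (r + e))) := by
  by_cases hx : x = 1
  · exact Or.inl ⟨hx, hx ▸ h.C_one_card⟩
  by_cases hxq : x ^ p ^ m = 1
  · exact Or.inr (Or.inl ⟨hx, hxq, h.hq ▸ h.base.cent x hx hxq⟩)
  · exact Or.inr (Or.inr ⟨hxq, h.oth x hxq⟩)

/-- The numbers of classes. -/
theorem class_numbers [Fintype Q] : ∃ kP k : ℕ,
    ((h.cset (2 * r + 1)).image ConjClasses.mk).card = r ∧
    2 * kP + k + 1 = 2 * r + 2 * e ∧
    (h.cset (2 * r + 1)).card = r * ((4 * r + 2 * e + 1) * (4 * (r + e))) ∧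
    (h.cset (2 * (r + e))).card = kP * (2 * ((4 * r + 2 * e + 1) * (2 * r + 1))) ∧
    (h.cset (4 * (r + e))).card = k * ((4 * r + 2 * e + 1) * (2 * r + 1)) := by
  obtain ⟨he, hr, hr0⟩ := h.he, h.hr, h.hr0
  set a := ((h.cset (2 * r + 1)).image ConjClasses.mk).card with ha
  set kP := ((h.cset (2 * (r + e))).image ConjClasses.mk).card
  set k := ((h.cset (4 * (r + e))).image ConjClasses.mk).card
  have h1 : (h.cset (2 * r + 1)).card = a * ((4 * r + 2 * e + 1) * (4 * (r + e))) :=
    Nat.eq_of_mul_eq_mul_right (show 0 < 2 * r + 1 by omega) (by rw [h.card_cset, h.card_Q, ← ha]; ring)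
  have h2 : (h.cset (2 * (r + e))).card = kP * (2 * ((4 * r + 2 * e + 1) * (2 * r + 1))) :=
    Nat.eq_of_mul_eq_mul_right (show 0 < 2 * (r + e) by omega) (by rw [h.card_cset, h.card_Q]; ring)
  have h3 : (h.cset (4 * (r + e))).card = k * ((4 * r + 2 * e + 1) * (2 * r + 1)) :=
    Nat.eq_of_mul_eq_mul_right (show 0 < 4 * (r + e) by omega) (by rw [h.card_cset, h.card_Q]; ring)
  have htot : Nat.card Q = 1 + 2 * ((2 * r + 1) * (4 * (r + e))) + (h.cset (2 * r + 1)).card +
      (h.cset (2 * (r + e))).card + (h.cset (4 * (r + e))).card := by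
    have hQ := h.card_gt
    have e1 : ∀ x : Q, (1 : ℕ) = (if x = 1 then 1 else 0) + (if x ≠ 1 ∧ x ^ p ^ m = 1 then 1 else 0) +
        (if Nat.card (C x) = 2 * r + 1 then 1 else 0) + (if Nat.card (C x) = 2 * (r + e) then 1 else 0) +
        (if Nat.card (C x) = 4 * (r + e) then 1 else 0) := by
      intro x
      rcases h.card_five x with ⟨h1, h2⟩ | ⟨h1, h2, h3⟩ | ⟨h1, h2⟩
      · rw [if_pos h1, if_neg (fun hh => hh.1 h1), if_neg (by omega), if_neg (by omega), if_neg (by omega)]
      · rw [if_neg h1, if_pos ⟨h1, h2⟩, if_neg (by omega), if_neg (by omega), if_neg (by omega)]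
      · have hx1 : x ≠ 1 := fun hh => h1 (by rw [hh, one_pow])
        rw [if_neg hx1, if_neg (fun hh => h1 hh.2)]
        rcases h2 with h2 | h2 | h2
        · rw [if_pos h2, if_neg (by omega), if_neg (by omega)]
        · rw [if_neg (by omega), if_pos h2, if_neg (by omega)]
        · rw [if_neg (by omega), if_neg (by omega), if_pos h2]
    rw [Nat.card_eq_fintype_card, ← Finset.card_univ, Finset.card_eq_sum_ones, Finset.sum_congr rfl fun x _ => e1 x]
    simp only [Finset.sum_add_distrib, Finset.sum_boole, Nat.cast_id]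
    rw [h.base.count.1, show ((Finset.univ : Finset Q).filter fun x => x = 1) = {1} by ext; simp,
      Finset.card_singleton]
    simp only [cset]
  rw [h1, h2, h3, h.card_Q] at htot
  have hE : (2 * r + 1) * (4 * (r + e)) = (4 * r + 2 * e + 1) + a * (4 * (r + e)) +
      (2 * kP + k) * (2 * r + 1) := by
    refine Nat.eq_of_mul_eq_mul_left (show 0 < 4 * r + 2 * e + 1 by omega) ?_
    rw [htot]
    have hb := h.base.hAd
    rw [h.hq] at hb
    nlinarith [hb]
  have hlt : a ≤ 2 * r := by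
    by_contra hc
    have : (2 * r + 1) * (4 * (r + e)) ≤ a * (4 * (r + e)) := Nat.mul_le_mul_right _ (by omega)
    omega
  have hd : ((2 * r + 1 : ℕ) : ℤ) ∣ ((2 * a + 1 : ℕ) : ℤ) := by
    have hz : ((2 * r + 1) * (4 * (r + e)) : ℤ) = (4 * r + 2 * e + 1) + a * (4 * (r + e)) +
        (2 * kP + k) * (2 * r + 1) := by exact_mod_cast hE
    push_cast
    rcases (show e = 0 ∨ e = 1 by omega) with rfl | rfl
    · exact ⟨2 * a + 2 * kP + k - 4 * r + 2, by push_cast at hz; linear_combination hz⟩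
    · exact ⟨-2 * a - 2 * kP - k + 4 * r + 2, by push_cast at hz; linear_combination -hz⟩
  obtain ⟨c, hc⟩ := (by exact_mod_cast hd : 2 * r + 1 ∣ 2 * a + 1)
  have hc1 : c = 1 := by
    rcases c with _ | _ | c
    · omega
    · rfl
    · exfalso
      have : (2 * r + 1) * 2 ≤ (2 * r + 1) * (c + 1 + 1) := Nat.mul_le_mul_left _ (by omega)
      omega
  rw [hc1, mul_one] at hc
  have har : a = r := by omega
  rw [har] at h1 hE
  refine ⟨kP, k, har, ?_, h1, h2, h3⟩
  rcases (show e = 0 ∨ e = 1 by omega) with rfl | rfl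
  · nlinarith
  · nlinarith

/-- Involutions `i` with `i g` an involution. -/
noncomputable def pairs [Fintype Q] (_ : OData Q p m r e) (g : Q) : Finset Q :=
  Finset.univ.filter fun i => IsInv i ∧ IsInv (i * g)

theorem sum_pairs [Fintype Q] :
    ∑ g, (h.pairs g).card = ((Finset.univ : Finset Q).filter IsInv).card ^ 2 := by
  rw [pow_two, ← Finset.card_product, ← Finset.card_sigma]
  refine Finset.card_bij' (fun a _ => (a.2, a.2 * a.1)) (fun b _ => ⟨b.1 * b.2, b.1⟩) ?_ ?_ ?_ ?_
  · rintro ⟨g, i⟩ hb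
    simpa [pairs] using hb
  · rintro ⟨i, j⟩ hb
    simp only [Finset.mem_product, Finset.mem_filter, Finset.mem_univ, true_and] at hb
    simp [pairs, hb.1, ← mul_assoc, hb.1.2, hb.2]
  · rintro ⟨g, i⟩ hb
    simp only [pairs, Finset.mem_sigma, Finset.mem_filter, Finset.mem_univ, true_and] at hb
    simp [← mul_assoc, hb.1.2]
  · rintro ⟨i, j⟩ hb
    simp only [Finset.mem_product, Finset.mem_filter, Finset.mem_univ, true_and] at hb
    simp [← mul_assoc, hb.1.2]

theorem pair_inverts [Fintype Q] {g i : Q} (hi : i ∈ h.pairs g) : IsInv i ∧ i * g * i⁻¹ = g⁻¹ := by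
  simp only [pairs, Finset.mem_filter, Finset.mem_univ, true_and] at hi
  refine ⟨hi.1, ?_⟩
  rw [inv_inv_eq hi.1]
  exact eq_inv_of_mul_eq_one_left (by rw [mul_assoc]; exact hi.2.2)

theorem pairs_le [Fintype Q] (g : Q) : (h.pairs g).card ≤ Nat.card (C g) := by
  rcases Finset.eq_empty_or_nonempty (h.pairs g) with h0 | ⟨i0, hi0⟩
  · simp [h0]
  obtain ⟨h0, e0⟩ := h.pair_inverts hi0
  have hmem : ∀ i ∈ h.pairs g, i0 * i ∈ C g := fun i hi => by
    obtain ⟨-, e1⟩ := h.pair_inverts hi
    rw [mem_C, mul_assoc, show i * g = g⁻¹ * i from mul_inv_eq_iff_eq_mul.1 e1, ← mul_assoc,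
      show i0 * g⁻¹ = g * i0 from by
        have e2 := congrArg (·⁻¹) e0
        simp only [mul_inv_rev, inv_inv, ← mul_assoc] at e2
        exact mul_inv_eq_iff_eq_mul.1 e2, mul_assoc]
  rw [Nat.card_eq_fintype_card, ← Fintype.card_coe]
  exact Fintype.card_le_of_injective (fun i => (⟨i0 * i.1, hmem i.1 i.2⟩ : C g)) fun i j hij =>
    Subtype.ext (mul_left_cancel (congrArg Subtype.val hij))

theorem pairs_inv [Fintype Q] {s : Q} (hs : IsInv s) : (h.pairs s).card + 2 ≤ Nat.card (C s) := by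
  have hsub : h.pairs s ⊆ (Finset.univ.filter fun x => x ∈ C s) \ {1, s} := by
    intro i hi
    obtain ⟨h1, h2⟩ := h.pair_inverts hi
    simp only [pairs, Finset.mem_filter, Finset.mem_univ, true_and] at hi
    simp only [Finset.mem_sdiff, Finset.mem_filter, Finset.mem_univ, true_and, Finset.mem_insert,
      Finset.mem_singleton, not_or]
    refine ⟨mem_C.2 ?_, h1.1, fun e1 => hi.2.1 (e1 ▸ hs.2)⟩
    rw [inv_inv_eq hs] at h2
    exact mul_inv_eq_iff_eq_mul.1 h2
  have hc := Finset.card_le_card hsub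
  have hsub2 : ({1, s} : Finset Q) ⊆ Finset.univ.filter fun x => x ∈ C s := by
    intro x hx
    simp only [Finset.mem_insert, Finset.mem_singleton] at hx
    rcases hx with rfl | rfl <;> simp [one_mem, self_mem]
  rw [Finset.card_sdiff_of_subset hsub2, Finset.card_pair hs.1.symm] at hc
  have : (Finset.univ.filter fun x => x ∈ C s).card = Nat.card (C s) := by
    rw [Nat.card_eq_fintype_card, Fintype.card_subtype]
  have h2 := Finset.card_le_card hsub2
  rw [Finset.card_pair hs.1.symm] at h2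
  omega

theorem pairs_p [Fintype Q] (hB : ∀ i : Q, IsInv i → ∀ P : Sylow p Q, i ∉ normalizer ((P : Subgroup Q) : Set Q)) {g : Q}
    (hg : g ^ p ^ m = 1) (hg1 : g ≠ 1) : h.pairs g = ∅ := by
  refine Finset.eq_empty_of_forall_notMem fun i hi => ?_
  obtain ⟨hi1, e1⟩ := h.pair_inverts hi
  haveI : Fact p.Prime := ⟨h.base.hp⟩
  have hcard := h.base.cent g hg1 hg
  obtain ⟨P, hP⟩ := (IsPGroup.of_card hcard).exists_le_sylow
  have hPC : C g = (P : Subgroup Q) := eq_of_le_of_card_ge hP (by rw [hcard]; exact (h.base.sylow_card P).le)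
  refine hB i hi1 P ?_
  rw [mem_normalizer_iff]
  intro n
  show n ∈ (P : Subgroup Q) ↔ i * n * i⁻¹ ∈ (P : Subgroup Q)
  rw [← hPC]
  have hC : C g⁻¹ = C g := by
    ext a; rw [mem_C, mem_C]; exact ⟨fun e => by simpa using (Commute.inv_right e).eq, fun e => (Commute.inv_right e).eq⟩
  conv_rhs => rw [← hC, ← e1, mem_conj_C, show i⁻¹ * (i * n * i⁻¹) * i = n by group]

theorem pairs_full [Fintype Q] {g : Q} (hg : Nat.card (C g) = 4 * (r + e)) (hgi : ¬ IsInv g) :
    h.pairs g = ∅ := by
  have hr := h.hr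
  refine Finset.eq_empty_of_forall_notMem fun i hi => ?_
  obtain ⟨hi1, e1⟩ := h.pair_inverts hi
  have hC : C g⁻¹ = C g := by
    ext a; rw [mem_C, mem_C]; exact ⟨fun e => by simpa using (Commute.inv_right e).eq, fun e => (Commute.inv_right e).eq⟩
  have hiN : i ∈ normalizer ((C g : Subgroup Q) : Set Q) := by
    rw [mem_normalizer_iff]
    intro n
    show n ∈ C g ↔ i * n * i⁻¹ ∈ C g
    conv_rhs => rw [← hC, ← e1, mem_conj_C, show i⁻¹ * (i * n * i⁻¹) * i = n by group]
  have hg1 : g ≠ 1 := by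
    rintro rfl
    rw [h.C_one_card] at hg
    exact absurd hg h.card_gt.1.ne'
  have hiC : i ∉ C g := fun hc => by
    refine hgi ⟨hg1, ?_⟩
    rw [mem_C.1 hc, mul_inv_cancel_right] at e1
    exact mul_eq_one_iff_eq_inv.2 e1
  let N := normalizer ((C g : Subgroup Q) : Set Q)
  haveI : ((C g).subgroupOf N).Normal := Subgroup.normal_in_normalizer
  let x : N ⧸ (C g).subgroupOf N := (⟨i, hiN⟩ : N)
  have hx : orderOf x = 2 := orderOf_eq_prime
    (by rw [← QuotientGroup.mk_pow, QuotientGroup.eq_one_iff, mem_subgroupOf]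
        show i ^ 2 ∈ C g
        rw [pow_two, hi1.2]; exact one_mem _)
    (fun e2 => hiC (mem_subgroupOf.1 ((QuotientGroup.eq_one_iff _).1 e2)))
  have h2 : 2 ∣ (C g).index := by
    rw [← relIndex_mul_index (show C g ≤ N from le_normalizer)]
    exact dvd_mul_of_dvd_left (hx ▸ orderOf_dvd_natCard x) _
  have h3 := card_mul_index (C g)
  rw [hg, h.card_Q] at h3
  obtain ⟨c, hc⟩ := h2
  have h4 : (4 * r + 2 * e + 1) * (2 * r + 1) = 2 * c := by
    refine Nat.eq_of_mul_eq_mul_left (show 0 < 4 * (r + e) by omega) ?_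
    rw [← hc, h3]; ring
  have h5 : ¬ 2 ∣ (4 * r + 2 * e + 1) * (2 * r + 1) :=
    Nat.Prime.not_dvd_mul Nat.prime_two (by omega) (by omega)
  exact h5 ⟨c, h4⟩

/-- Without involutions normalising Sylow `p`-subgroups, `q ≡ 3 (mod 4)` and the elements with centralisers
of order `q + 1` are involutions. -/
theorem no_normalising (hB : ∀ i : Q, IsInv i → ∀ P : Sylow p Q, i ∉ normalizer ((P : Subgroup Q) : Set Q)) :
    e = 1 ∧ ∀ g : Q, Nat.card (C g) = 4 * (r + e) → IsInv g := by
  haveI : Fintype Q := Fintype.ofFinite Q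
  obtain ⟨he, hr, hr0⟩ := h.he, h.hr, h.hr0
  obtain ⟨kP, k, -, hb, hT, hH, hM⟩ := h.class_numbers
  set q := 4 * r + 2 * e + 1 with hq
  set T := 2 * r + 1 with hTdef
  have hmk : ∀ (c : ℕ) (P : Q → Prop), (∀ g x, P x → P (g * x * g⁻¹)) →
      ((h.cset c).filter P).card * c = (((h.cset c).filter P).image ConjClasses.mk).card * Nat.card Q := by
    intro c P hP
    refine card_classes _ (fun g x hx => ?_) c fun x hx => (Finset.mem_filter.1 (Finset.mem_filter.1 hx).1).2
    simp only [cset, Finset.mem_filter, Finset.mem_univ, true_and] at hx ⊢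
    exact ⟨by rw [card_C_conj, hx.1], hP g x hx.2⟩
  have hInvc : ∀ g x : Q, IsInv x → IsInv (g * x * g⁻¹) := fun g x hx => inv_conj hx g
  set j := (((h.cset (2 * (r + e))).filter IsInv).image ConjClasses.mk).card
  set i1 := (((h.cset (4 * (r + e))).filter IsInv).image ConjClasses.mk).card
  have hj : ((h.cset (2 * (r + e))).filter IsInv).card = j * (2 * (q * T)) :=
    Nat.eq_of_mul_eq_mul_right (show 0 < 2 * (r + e) by omega) (by
      rw [hmk _ _ hInvc, h.card_Q, hq, hTdef]; ring)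
  have hi1 : ((h.cset (4 * (r + e))).filter IsInv).card = i1 * (q * T) :=
    Nat.eq_of_mul_eq_mul_right (show 0 < 4 * (r + e) by omega) (by
      rw [hmk _ _ hInvc, h.card_Q, hq, hTdef]; ring)
  have hqT : 0 < q * T := Nat.mul_pos (by omega) (by omega)
  have hjk : j ≤ kP := by
    have := Finset.card_filter_le (h.cset (2 * (r + e))) IsInv
    rw [hj, hH] at this
    exact Nat.le_of_mul_le_mul_right this (Nat.mul_pos two_pos hqT)
  have hik : i1 ≤ k := by
    have := Finset.card_filter_le (h.cset (4 * (r + e))) IsInv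
    rw [hi1, hM] at this
    exact Nat.le_of_mul_le_mul_right this hqT
  have hi0 : 0 < i1 := by
    obtain ⟨i, hi, hic⟩ := h.exists_inv_full
    exact Finset.card_pos.2 ⟨_, Finset.mem_image_of_mem _ (Finset.mem_filter.2
      ⟨Finset.mem_filter.2 ⟨Finset.mem_univ _, hic⟩, hi⟩)⟩
  have ht : ((Finset.univ : Finset Q).filter IsInv).card = (2 * j + i1) * (q * T) := by
    have e1 : (Finset.univ : Finset Q).filter IsInv =
        (h.cset (2 * (r + e))).filter IsInv ∪ (h.cset (4 * (r + e))).filter IsInv := by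
      ext x
      simp only [cset, Finset.mem_union, Finset.mem_filter, Finset.mem_univ, true_and]
      exact ⟨fun hx => (h.inv_cent hx).imp (fun hh => ⟨hh, hx⟩) fun hh => ⟨hh, hx⟩,
        fun hx => hx.elim And.right And.right⟩
    rw [e1, Finset.card_union_of_disjoint, hj, hi1]
    · ring
    · refine Finset.disjoint_left.2 fun x hx hx' => ?_
      simp only [cset, Finset.mem_filter, Finset.mem_univ, true_and] at hx hx'
      omega
  set t := ((Finset.univ : Finset Q).filter IsInv).card with htdef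
  have hbound : t ^ 2 + 2 * ((h.cset (4 * (r + e))).filter IsInv).card ≤ t + T * (h.cset T).card +
      2 * (r + e) * (h.cset (2 * (r + e))).card + 4 * (r + e) * ((h.cset (4 * (r + e))).filter IsInv).card := by
    have hQ := h.card_gt
    have hle : ∀ g : Q, (h.pairs g).card + (if Nat.card (C g) = 4 * (r + e) ∧ IsInv g then 2 else 0) ≤
        (if g = 1 then t else 0) + (if Nat.card (C g) = T then T else 0) +
        (if Nat.card (C g) = 2 * (r + e) then 2 * (r + e) else 0) +
        (if Nat.card (C g) = 4 * (r + e) ∧ IsInv g then 4 * (r + e) else 0) := by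
      intro g
      rcases h.card_five g with ⟨h1, h2⟩ | ⟨h1, h2, h3⟩ | ⟨h1, h2⟩
      · have hne : ¬ (Nat.card (C g) = 4 * (r + e) ∧ IsInv g) := fun hh => by omega
        rw [if_pos h1, if_neg hne]
        have : (h.pairs g).card ≤ t := Finset.card_le_card fun i hi =>
          Finset.mem_filter.2 ⟨Finset.mem_univ _, (h.pair_inverts hi).1⟩
        omega
      · have hne : ¬ (Nat.card (C g) = 4 * (r + e) ∧ IsInv g) := fun hh => by omega
        rw [h.pairs_p hB h2 h1, if_neg hne, Finset.card_empty]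
        omega
      · rcases h2 with h2 | h2 | h2
        · have hne : ¬ (Nat.card (C g) = 4 * (r + e) ∧ IsInv g) := fun hh => by omega
          rw [if_neg hne, if_pos h2]
          have := h.pairs_le g
          omega
        · have hne : ¬ (Nat.card (C g) = 4 * (r + e) ∧ IsInv g) := fun hh => by omega
          rw [if_neg hne, if_pos h2]
          have := h.pairs_le g
          omega
        · by_cases hgi : IsInv g
          · have hc : Nat.card (C g) = 4 * (r + e) ∧ IsInv g := ⟨h2, hgi⟩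
            rw [if_pos hc, if_pos hc]
            have := h.pairs_inv hgi
            omega
          · rw [h.pairs_full h2 hgi, Finset.card_empty, if_neg (fun hh => hgi hh.2)]
            omega
    have hs := Finset.sum_le_sum (s := Finset.univ) fun g _ => hle g
    simp only [Finset.sum_add_distrib, Finset.sum_ite, Finset.sum_const_zero, add_zero, Finset.sum_const,
      smul_eq_mul] at hs
    rw [h.sum_pairs, ← htdef, show ((Finset.univ : Finset Q).filter fun x => x = 1) = {1} by ext; simp,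
      Finset.card_singleton] at hs
    simp only [cset, Finset.filter_filter]
    nlinarith [hs]
  rw [ht, hT, hH, hi1] at hbound
  set w := 2 * j + i1
  set M := 4 * (r + e) with hMdef
  have hineq : w * w * (q * T) + 2 * i1 ≤ w + M * (r + kP + i1) := by
    refine Nat.le_of_mul_le_mul_right ?_ hqT
    rw [hMdef] at hbound ⊢
    nlinarith [hbound]
  have hw1 : w = 1 := by
    by_contra hne
    have hw2 : 2 ≤ w := by omega
    have h4 : 4 * (q * T) ≤ w * w * (q * T) := Nat.mul_le_mul_right _ (Nat.mul_le_mul hw2 hw2)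
    have h5 : M * (r + kP + i1) ≤ M * (r + 2 * r + 2 * e) := Nat.mul_le_mul_left _ (by omega)
    rw [hMdef, hq, hTdef] at *
    rcases (show e = 0 ∨ e = 1 by omega) with rfl | rfl <;> nlinarith
  have hi11 : i1 = 1 := by omega
  rw [hi11, hw1] at hineq
  rcases (show e = 0 ∨ e = 1 by omega) with e0 | e1
  · exfalso
    have h5 : M * (r + kP + 1) ≤ M * (r + r) := Nat.mul_le_mul_left _ (by omega)
    subst e0
    rw [hMdef, hq, hTdef] at *
    nlinarith
  have hk1 : k = 1 := by
    by_contra hne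
    have h5 : M * (2 * (r + kP + 1)) ≤ M * (4 * r + 1) := Nat.mul_le_mul_left _ (by omega)
    subst e1
    rw [hMdef, hq, hTdef] at *
    nlinarith
  refine ⟨e1, fun g hg => ?_⟩
  have hsame : (h.cset M).filter IsInv = h.cset M := Finset.eq_of_subset_of_card_le (Finset.filter_subset _ _)
    (by rw [hM, hi1, hi11, hk1])
  have : g ∈ (h.cset M).filter IsInv := hsame.symm ▸ Finset.mem_filter.2 ⟨Finset.mem_univ _, hg⟩
  exact (Finset.mem_filter.1 this).2

end OData

end CfsgLib.Char.PslSizes
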