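import Cfsg.Agent.Lib.Char.PslClassSizes.Count
import Cfsg.Agent.Lib.Perm.Zassenhaus.OddDegree
import Cfsg.Agent.Lib.Char.SuzukiZassenhaus.Main
import Cfsg.Agent.Lib.Char.SylSeventeen.Recog
import Cfsg.Agent.Lib.Classical.ProjLine
import Cfsg.Agent.S0731

/-!
# The action on the Sylow subgroups
-/

set_option autoImplicit false
set_option linter.unusedSectionVars false
set_option linter.style.haveILetI false

namespace CfsgLib.Char.PslSizes

open Subgroup MulAction
open scoped _root_.Classical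

variable {Q : Type*} [Group Q] [Finite Q] {p m A d : ℕ}

namespace PData

variable (h : PData Q p m A d)
  (hab : ∀ P : Sylow p Q, ∀ a ∈ (P : Subgroup Q), ∀ b ∈ (P : Subgroup Q), a * b = b * a)

include h hab

/-- A nontrivial element of a Sylow subgroup moves all the other Sylow subgroups. -/
theorem eq_one_of_fix {P P' : Sylow p Q} (hne : P' ≠ P) {u : Q} (hu : u ∈ (P : Subgroup Q)) (hfix : u • P' = P') :
    u = 1 := by
  by_contra hu1
  have h1 : u ∈ (P : Subgroup Q) ⊓ normalizer (P' : Set Q) :=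
    mem_inf.2 ⟨hu, Sylow.smul_eq_iff_mem_normalizer.1 hfix⟩
  have : Fact p.Prime := ⟨h.hp⟩
  rw [P.2.inf_normalizer_sylow P'] at h1
  exact hne (Sylow.ext ((h.sylow_eq_C hab P' (mem_inf.1 h1).2 hu1).trans (h.sylow_eq_C hab P hu hu1).symm))

theorem exists_unique_move {P P' P'' : Sylow p Q} (h1 : P' ≠ P) (h2 : P'' ≠ P) :
    ∃! u : (P : Subgroup Q), (u : Q) • P' = P'' := by
  have : Fact p.Prime := ⟨h.hp⟩
  haveI : Fintype (Sylow p Q) := Fintype.ofFinite _
  have hne : ∀ u : (P : Subgroup Q), (u : Q) • P' ≠ P := fun u e => h1 (by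
    have h3 : (u : Q) • P = P := Sylow.smul_eq_iff_mem_normalizer.2 (le_normalizer u.2)
    exact smul_left_cancel _ (e.trans h3.symm))
  have hinj : Function.Injective fun u : (P : Subgroup Q) => (⟨(u : Q) • P', hne u⟩ : {R // R ≠ P}) := by
    intro u v e
    refine Subtype.ext (inv_mul_eq_one.1 (h.eq_one_of_fix hab h1 (mul_mem (inv_mem v.2) u.2) ?_)).symm
    rw [mul_smul, show (u : Q) • P' = (v : Q) • P' from congrArg Subtype.val e, inv_smul_smul]
  have hb := (Nat.bijective_iff_injective_and_card _).2 ⟨hinj, by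
    rw [h.sylow_card P, Nat.card_eq_fintype_card (α := {R // R ≠ P}), Fintype.card_subtype_compl,
      Fintype.card_subtype_eq, ← Nat.card_eq_fintype_card, h.card_sylow hab]
    omega⟩
  obtain ⟨u, hu⟩ := hb.2 ⟨P'', h2⟩
  exact ⟨u, congrArg Subtype.val hu, fun v hv => hinj (Subtype.ext (hv.trans (congrArg Subtype.val hu).symm))⟩

theorem three_fix (g : Q) (a b c : Sylow p Q) (hab' : a ≠ b) (hbc : b ≠ c) (hac : a ≠ c) (ha : g • a = a)
    (hb : g • b = b) (hc : g • c = c) : g = 1 := by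
  obtain ⟨u, hu, huniq⟩ := h.exists_unique_move hab hab'.symm hac.symm
  have hu1 : (u : Q) ≠ 1 := fun e => hbc (by rw [← hu, e, one_smul])
  have hgu : g * u * g⁻¹ ∈ (a : Subgroup Q) :=
    ((mem_normalizer_iff.1 (Sylow.smul_eq_iff_mem_normalizer.1 ha)) u).1 u.2
  have e : (⟨_, hgu⟩ : (a : Subgroup Q)) = u := huniq _ (by
    show (g * (u : Q) * g⁻¹) • b = c
    rw [mul_smul, mul_smul, show g⁻¹ • b = b by rw [inv_smul_eq_iff, hb], show (u : Q) • b = c from hu, hc])
  have hgC : g ∈ C (u : Q) := mem_C.2 (mul_inv_eq_iff_eq_mul.1 (congrArg Subtype.val e))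
  rw [← h.sylow_eq_C hab a u.2 hu1] at hgC
  exact h.eq_one_of_fix hab hab'.symm hgC hb

theorem two_transitive : IsMultiplyPretransitive Q (Sylow p Q) 2 := by
  have : Fact p.Prime := ⟨h.hp⟩
  rw [MulAction.is_two_pretransitive_iff]
  intro a b c e hab' hce
  obtain ⟨g, hg⟩ := MulAction.exists_smul_eq Q a c
  have hgb : g • b ≠ c := fun e1 => hab' (smul_left_cancel g (hg.trans e1.symm))
  obtain ⟨u, hu, -⟩ := h.exists_unique_move hab hgb hce.symm
  refine ⟨(u : Q) * g, ?_, by rw [mul_smul, hu]⟩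
  rw [mul_smul, hg]
  exact Sylow.smul_eq_iff_mem_normalizer.2 (le_normalizer u.2)

theorem card_stab (a : Sylow p Q) : Nat.card (stabilizer Q a) * (p ^ m + 1) = p ^ m * A := by
  have : Fact p.Prime := ⟨h.hp⟩
  rw [← h.card, ← h.card_sylow hab]
  have h1 := (stabilizer Q a).card_mul_index
  rwa [index_stabilizer_of_transitive] at h1

theorem card_pair (a b : Sylow p Q) (hne : b ≠ a) :
    Nat.card (stabilizer Q a ⊓ stabilizer Q b : Subgroup Q) * p ^ m = Nat.card (stabilizer Q a) := by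
  have : Fact p.Prime := ⟨h.hp⟩
  rw [← h.sylow_card a, ← Nat.card_prod]
  refine Nat.card_eq_of_bijective (fun x => (⟨(x.2 : Q) * x.1, mul_mem
    (Sylow.smul_eq_iff_mem_normalizer.2 (le_normalizer x.2.2)) x.1.2.1⟩ : stabilizer Q a)) ⟨?_, ?_⟩
  · rintro ⟨s, u⟩ ⟨s', u'⟩ e
    have e' : (u : Q) * s = u' * s' := congrArg Subtype.val e
    obtain rfl : u = u' := (h.exists_unique_move hab hne
      (fun e1 => hne (smul_left_cancel _ (e1.trans (Sylow.smul_eq_iff_mem_normalizer.2 (le_normalizer u.2)).symm)))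
        ).unique (y₁ := u) (y₂ := u') rfl (by
        have := congrArg (fun k : Q => k • b) e'
        simp only [mul_smul, show (s : Q) • b = b from s.2.2, show (s' : Q) • b = b from s'.2.2] at this
        exact this.symm)
    exact Prod.ext (Subtype.ext (mul_left_cancel e')) rfl
  · rintro ⟨k, hk⟩
    have hkb : k • b ≠ a := fun e1 => hne (smul_left_cancel k (e1.trans (show k • a = a from hk).symm))
    obtain ⟨u, hu, -⟩ := h.exists_unique_move hab hne hkb
    refine ⟨(⟨(u : Q)⁻¹ * k, mem_inf.2 ⟨mul_mem (inv_mem (Sylow.smul_eq_iff_mem_normalizer.2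
      (le_normalizer u.2))) hk, ?_⟩⟩, u), Subtype.ext (mul_inv_cancel_left _ _)⟩
    show ((u : Q)⁻¹ * k) • b = b
    rw [mul_smul, ← hu, inv_smul_smul]

theorem zassenhaus (hbig : ∀ x : Q, x ^ p ^ m ≠ 1 → (orderOf x).Prime → Nat.card (C x) ≠ A) :
    Cfsg.IsZassenhausGroup Q (Sylow p Q) := by
  have : Fact p.Prime := ⟨h.hp⟩
  have hcard := h.card_sylow hab
  have hq := h.hq
  haveI : Fintype (Sylow p Q) := Fintype.ofFinite _
  have hex : ∀ a b : Sylow p Q, ∃ c, c ≠ a ∧ c ≠ b := fun a b => by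
    by_contra hh
    push Not at hh
    have hle : (Finset.univ : Finset (Sylow p Q)).card ≤ ({a, b} : Finset (Sylow p Q)).card :=
      Finset.card_le_card fun x _ => by
        by_cases hx : x = a
        · simp [hx]
        · simp [hh x hx]
    have h2 := hle.trans Finset.card_le_two
    rw [Finset.card_univ, ← Nat.card_eq_fintype_card, hcard] at h2
    omega
  refine ⟨⟨fun {g g'} hgg => ?_⟩, h.two_transitive hab, h.three_fix hab, ?_, ?_⟩
  · obtain ⟨a⟩ : Nonempty (Sylow p Q) := inferInstance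
    obtain ⟨b, hb, -⟩ := hex a a
    obtain ⟨c, hca, hcb⟩ := hex a b
    refine (inv_mul_eq_one.1 (h.three_fix hab (g⁻¹ * g') a b c hb.symm hcb.symm hca.symm ?_ ?_ ?_))
    all_goals rw [mul_smul, ← hgg, inv_smul_smul]
  · obtain ⟨a⟩ : Nonempty (Sylow p Q) := inferInstance
    obtain ⟨b, hb, -⟩ := hex a a
    by_contra hh
    push Not at hh
    have hbot : (stabilizer Q a ⊓ stabilizer Q b : Subgroup Q) = ⊥ := eq_bot_iff.2 fun g hg => by
      by_contra hg1
      exact hh g hg1 a b hb.symm (mem_inf.1 hg).1 (mem_inf.1 hg).2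
    have h1 := h.card_pair hab a b hb
    rw [hbot, Subgroup.card_bot, one_mul] at h1
    have h2 := h.card_stab hab a
    rw [← h1] at h2
    have h3 : p ^ m + 1 = A := Nat.eq_of_mul_eq_mul_left (pow_pos h.hp.pos m) h2
    have h4 := h.hAd
    obtain ⟨-, hd2⟩ := h.hd
    rw [← h3] at h4
    have : (p ^ m + 1) * d ≤ (p ^ m + 1) * 2 := Nat.mul_le_mul_left _ hd2
    nlinarith
  · intro N hN htr
    by_contra hh
    push Not at hh
    obtain ⟨a⟩ : Nonempty (Sylow p Q) := inferInstance
    have hNc : Nat.card N = p ^ m + 1 := by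
      rw [← hcard]
      haveI := htr
      have h1 := (stabilizer N a).card_mul_index
      rw [index_stabilizer_of_transitive, hh a, Subgroup.card_bot, one_mul] at h1
      exact h1.symm
    obtain ⟨l, hl, hld⟩ := Nat.exists_prime_and_dvd (show Nat.card N ≠ 1 by omega)
    haveI : Fact l.Prime := ⟨hl⟩
    obtain ⟨⟨x, hxN⟩, hxo⟩ := exists_prime_orderOf_dvd_card' l hld
    rw [Subgroup.orderOf_mk] at hxo
    have hxq : x ^ p ^ m ≠ 1 := fun e => by
      have h1 := hxo ▸ orderOf_dvd_of_pow_eq_one e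
      rw [hNc] at hld
      exact hl.one_lt.ne' (Nat.dvd_one.1 ((Nat.dvd_add_right h1).1 hld))
    refine hbig x hxq (hxo ▸ hl) ?_
    have hlow : p ^ m ≤ (C x).index := by
      rw [← nat_card_centralizer_index, ← h.sylow_card a]
      refine Nat.card_le_card_of_injective (fun u : (a : Subgroup Q) =>
        (⟨(u : Q) * x * (u : Q)⁻¹, isConj_iff.2 ⟨u, rfl⟩⟩ : {y : Q // IsConj x y})) fun u v e => ?_
      have e' : (u : Q) * x * (u : Q)⁻¹ = v * x * (v : Q)⁻¹ := congrArg Subtype.val e
      by_contra hne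
      have hw1 : (v : Q)⁻¹ * u ≠ 1 := fun e1 => hne (Subtype.ext (inv_mul_eq_one.1 e1).symm)
      refine hxq (h.mem_of_comm (h.sylow_pow a (mul_mem (inv_mem v.2) u.2)) hw1 (mem_C.2 ?_))
      calc x * ((v : Q)⁻¹ * u) = (v : Q)⁻¹ * ((v : Q) * x * (v : Q)⁻¹) * u := by group
        _ = (v : Q)⁻¹ * ((u : Q) * x * (u : Q)⁻¹) * u := by rw [e']
        _ = _ := by group
    have hhigh : (C x).index ≤ p ^ m := by
      haveI : Fintype N := Fintype.ofFinite N
      rw [← nat_card_centralizer_index]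
      have hmem : ∀ y : {y : Q // IsConj x y}, y.1 ∈ N := fun ⟨y, hy⟩ => by
        obtain ⟨g, rfl⟩ := isConj_iff.1 hy
        exact hN.conj_mem x hxN g
      refine (Nat.card_le_card_of_injective (fun y : {y : Q // IsConj x y} =>
        (⟨⟨y.1, hmem y⟩, fun e => ?_⟩ : {z : N // z ≠ 1}))
        fun y z e => Subtype.ext (congrArg (fun w : {z : N // z ≠ 1} => (w.1 : Q)) e)).trans ?_
      · obtain ⟨g, hg⟩ := isConj_iff.1 y.2
        have : g * x * g⁻¹ = 1 := hg.trans (congrArg Subtype.val e)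
        exact hxq (by rw [conj_eq_one_iff.1 this, one_pow])
      · rw [Nat.card_eq_fintype_card, Fintype.card_subtype_compl, Fintype.card_subtype_eq,
          ← Nat.card_eq_fintype_card, hNc]
        omega
    have h1 := (C x).card_mul_index
    rw [le_antisymm hhigh hlow, h.card, mul_comm] at h1
    exact Nat.eq_of_mul_eq_mul_left (pow_pos h.hp.pos m) h1

theorem card_embedding : Nat.card (Fin 3 ↪ Sylow p Q) = (p ^ m + 1) * p ^ m * (p ^ m - 1) := by
  haveI : Fintype (Sylow p Q) := Fintype.ofFinite _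
  rw [Nat.card_eq_fintype_card, Fintype.card_embedding_eq, Fintype.card_fin, ← Nat.card_eq_fintype_card,
    h.card_sylow hab, Nat.descFactorial_succ, Nat.descFactorial_succ, Nat.descFactorial_succ,
    Nat.descFactorial_zero, Nat.sub_zero, mul_one, Nat.add_sub_cancel,
    show p ^ m + 1 - 2 = p ^ m - 1 by omega]
  ring

/-- The recognition. -/
theorem iso_psl {F : Type*} [Field F] [Fintype F] (hF : Fintype.card F = p ^ m) (h2 : d = 1 → p = 2)
    (hbig : ∀ x : Q, x ^ p ^ m ≠ 1 → (orderOf x).Prime → Nat.card (C x) ≠ A) :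
    Nonempty (Q ≃* Matrix.ProjectiveSpecialLinearGroup (Fin 2) F) := by
  have : Fact p.Prime := ⟨h.hp⟩
  have hZ := h.zassenhaus hab hbig
  haveI := hZ.1
  have hq := h.hq
  haveI : Fintype (Sylow p Q) := Fintype.ofFinite _
  have hst : ∀ x : Fin 3 ↪ Sylow p Q, stabilizer Q x = ⊥ := fun x => eq_bot_iff.2 fun g hg => by
    have hfix : ∀ i, g • x i = x i := fun i => DFunLike.congr_fun (show g • x = x from hg) i
    exact Subgroup.mem_bot.2 (h.three_fix hab g (x 0) (x 1) (x 2) (x.injective.ne (by decide))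
      (x.injective.ne (by decide)) (x.injective.ne (by decide)) (hfix 0) (hfix 1) (hfix 2))
  have hAd := h.hAd
  have hfac : (p ^ m + 1) * p ^ m * (p ^ m - 1) = p ^ m * (A * d) := by
    rw [show A * d = (p ^ m + 1) * (p ^ m - 1) by
      rw [← Nat.sq_sub_sq, one_pow]; omega]
    ring
  obtain ⟨hd1, hd2⟩ := h.hd
  rcases (show d = 1 ∨ d = 2 by omega) with hd | hd
  · obtain rfl := h2 hd
    have h3 : IsMultiplyPretransitive Q (Sylow 2 Q) 3 := by
      refine ⟨fun x y => ?_⟩
      have hinj : Function.Injective fun g : Q => g • x := fun g g' e => inv_mul_eq_one.1 (by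
        have hm : g'⁻¹ * g ∈ stabilizer Q x := by
          show (g'⁻¹ * g) • x = x
          rw [mul_smul, show g • x = g' • x from e, inv_smul_smul]
        rwa [hst x, Subgroup.mem_bot] at hm) |>.symm
      exact ((Nat.bijective_iff_injective_and_card _).2 ⟨hinj, by
        rw [h.card_embedding hab, hfac, h.card, hd, mul_one]⟩).2 y
    let R := (MulAction.toPermHom Q (Sylow 2 Q)).range
    have hR3 : IsMultiplyPretransitive R (Sylow 2 Q) 3 := ⟨fun x y => by
      haveI : IsPretransitive Q (Fin 3 ↪ Sylow 2 Q) := h3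
      obtain ⟨g, rfl⟩ := exists_smul_eq Q x y
      exact ⟨⟨_, g, rfl⟩, by ext i; rfl⟩⟩
    have hRs : ∀ x : Fin 3 ↪ Sylow 2 Q, stabilizer R x = ⊥ := fun x => eq_bot_iff.2 fun w hw => by
      obtain ⟨g, hg⟩ := w.2
      have hgx : g ∈ stabilizer Q x := by
        show g • x = x
        ext1 i
        have h0 := DFunLike.congr_fun (show w • x = x from hw) i
        show MulAction.toPermHom Q (Sylow 2 Q) g (x i) = x i
        rw [hg]
        exact h0
      rw [hst x, Subgroup.mem_bot] at hgx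
      rw [Subgroup.mem_bot]
      exact Subtype.ext (by rw [← hg, hgx, map_one]; rfl)
    obtain ⟨K, hK, hKf, hKc, ⟨e0⟩⟩ := CfsgLib.Perm.ZOdd.iso_pgl (G := R) (f := m) h.m_pos
      (by rw [← Nat.card_eq_fintype_card, h.card_sylow hab]) hR3 hRs
    have e := (MonoidHom.ofInjective (f := MulAction.toPermHom Q (Sylow 2 Q)) MulAction.toPerm_injective).trans e0
    obtain ⟨e2⟩ := CfsgLib.Char.SuzZ.nonempty_psl_equiv h.m_pos hKc
    obtain ⟨e3⟩ := CfsgLib.Char.SylSeventeen.pslEquiv_of_card_eq (hKc.trans hF.symm)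
    exact ⟨e.trans (e2.trans e3)⟩
  · obtain ⟨a⟩ : Nonempty (Sylow p Q) := inferInstance
    have hstab : stabilizer Q a = normalizer ((a : Subgroup Q) : Set Q) := Sylow.stabilizer_eq_normalizer a
    rcases Cfsg.Agent.S0731.result hZ a (a : Subgroup Q) (hstab ▸ le_normalizer)
      (Subgroup.normal_subgroupOf_of_le_normalizer hstab.le) ⟨⟨fun u v => Subtype.ext (hab a u u.2 v v.2)⟩⟩
      (fun y z hy hz => h.exists_unique_move hab hy hz) with ⟨h3, -⟩ | ⟨K, hK, hKf, hchar, ⟨e⟩⟩
    · exfalso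
      haveI : IsPretransitive Q (Fin 3 ↪ Sylow p Q) := h3
      haveI : Nonempty (Fin 3 ↪ Sylow p Q) := by
        rw [← not_isEmpty_iff]
        intro he
        have h0 := h.card_embedding hab
        rw [Nat.card_eq_zero.2 (Or.inl he)] at h0
        have h5 : 0 < (p ^ m + 1) * p ^ m * (p ^ m - 1) :=
          Nat.mul_pos (Nat.mul_pos (by omega) (by omega)) (by omega)
        omega
      obtain ⟨x⟩ := ‹Nonempty (Fin 3 ↪ Sylow p Q)›
      have h1 := (stabilizer Q x).card_mul_index
      rw [index_stabilizer_of_transitive, hst x, Subgroup.card_bot, one_mul, h.card_embedding hab, hfac,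
        h.card, hd] at h1
      have h4 := Nat.eq_of_mul_eq_mul_left (pow_pos h.hp.pos m) h1
      have := h.A_pos
      omega
    · have hKodd : Fintype.card K % 2 = 1 := FiniteField.odd_card_of_char_ne_two hchar
      have hK2 : Nat.gcd 2 (Fintype.card K - 1) = 2 := Nat.gcd_eq_left ⟨(Fintype.card K - 1) / 2, by omega⟩
      have h1 := CfsgLib.Classical.card_psl2 (F := K)
      rw [hK2, ← Nat.card_congr e.toEquiv, h.card] at h1
      have h5 : Fintype.card K * ((Fintype.card K - 1) * (Fintype.card K + 1)) =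
          p ^ m * ((p ^ m - 1) * (p ^ m + 1)) := by
        rw [← h1, mul_comm (p ^ m - 1), show (p ^ m + 1) * (p ^ m - 1) = A * 2 by
          rw [show A * 2 = A * d by rw [hd], ← Nat.sq_sub_sq, one_pow]; omega]
        ring
      have hKc : Fintype.card K = p ^ m := by
        rcases lt_trichotomy (Fintype.card K) (p ^ m) with hlt | heq | hgt
        · exact absurd h5 (Nat.mul_lt_mul'' hlt (Nat.mul_lt_mul'' (by omega) (by omega))).ne
        · exact heq
        · exact absurd h5 (Nat.mul_lt_mul'' hgt (Nat.mul_lt_mul'' (by omega) (by omega))).ne'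
      obtain ⟨e3⟩ := CfsgLib.Char.SylSeventeen.pslEquiv_of_card_eq (hKc.trans hF.symm)
      exact ⟨e.trans e3⟩

end PData

end CfsgLib.Char.PslSizes
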