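import Cfsg.Agent.Lib.Char.PslClassSizes.Local
import Cfsg.Agent.Lib.Char.PslClassSizes.Zass
import Cfsg.Agent.Lib.Classical.PSL2ClassSizes
import Cfsg.Agent.S2507
import Cfsg.Agent.S2508

/-!
# The central quotient of a group with the class sizes of `PSL(2,q)`
-/

set_option autoImplicit false
set_option linter.unusedSectionVars false
set_option linter.style.haveILetI false

namespace CfsgLib.Char.PslSizes

open Subgroup
open scoped _root_.Classical

variable {G : Type*} [Group G] [Finite G]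

namespace Hyp

variable {p m A N : ℕ} (h : Hyp G p m A N)
include h

/-- The data of the central quotient. -/
theorem pdata {d : ℕ} (hq : 4 ≤ p ^ m) (hAd : A * d + 1 = (p ^ m) ^ 2) (hd : 1 ≤ d ∧ d ≤ 2) :
    PData (G ⧸ center G) p m A d :=
  ⟨h.hp, hq, h.center_index, h.hpA, hAd, hd, fun _ hv1 hv => h.quot_cent hv hv1⟩

/-- Class sizes over elements which are not `p`-elements modulo the centre. -/
theorem nonp {x : G} (hx : (x : G ⧸ center G) ^ p ^ m ≠ 1) (hP : ¬ p ∣ Nat.card (C (x : G ⧸ center G))) :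
    cs x ≠ 1 ∧ cs x ≠ A := by
  refine ⟨fun e => hx ?_, fun e => hP ?_⟩
  · rw [(QuotientGroup.eq_one_iff x).2 (mem_center_iff_cs.2 e), one_pow]
  · have h1 := zc_mul_cs x
    rw [e, h.center_index] at h1
    have hz : zc x = p ^ m :=
      Nat.eq_of_mul_eq_mul_right (Nat.pos_of_ne_zero (e ▸ cs_ne_zero x)) h1
    exact (hz ▸ dvd_pow_self p h.hm.ne').trans (zc_dvd x)

/-- A component of a non-`p`-element of the quotient. -/
theorem component {d : ℕ} (D : PData (G ⧸ center G) p m A d) {x : G}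
    (hx : (x : G ⧸ center G) ^ p ^ m ≠ 1) :
    ∃ (r i : ℕ) (w : G), r.Prime ∧ r ∣ A ∧ (∃ k, w ^ r ^ k = 1) ∧ cs w ≠ 1 ∧ cs w ≠ A ∧ r ∣ zc w ∧
      Nat.card (C (w : G ⧸ center G)) = zc w * r ^ i ∧ zc w * r ^ i ∣ A ∧
      C x ≤ C w ∧ C (x : G ⧸ center G) ≤ C (w : G ⧸ center G) := by
  obtain ⟨hP, hA⟩ := D.cent_dvd hx
  have h1 : orderOf (x : G ⧸ center G) ≠ 1 := fun e => hx (by rw [orderOf_eq_one_iff.1 e, one_pow])
  obtain ⟨r, hr, hd⟩ := Nat.exists_prime_and_dvd h1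
  have hrC : r ∣ Nat.card (C (x : G ⧸ center G)) :=
    hd.trans (Subgroup.orderOf_dvd_natCard _ (self_mem _))
  have hrp : r ≠ p := fun e => hP (e ▸ hrC)
  obtain ⟨j, k, hjk, hjc⟩ := exists_component hr hd
  have hw : ((x ^ j : G) : G ⧸ center G) ^ p ^ m ≠ 1 := fun e => by
    have hk : ((x ^ j : G) : G ⧸ center G) ^ r ^ k = 1 := by
      rw [← QuotientGroup.mk_pow, hjk, QuotientGroup.mk_one]
    have h2 := Nat.dvd_gcd (orderOf_dvd_of_pow_eq_one e) (orderOf_dvd_of_pow_eq_one hk)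
    rw [((Nat.coprime_primes h.hp hr).2 hrp.symm).pow m k] at h2
    exact hjc ((QuotientGroup.eq_one_iff _).1 (orderOf_eq_one_iff.1 (Nat.dvd_one.1 h2)))
  obtain ⟨hP', hA'⟩ := D.cent_dvd hw
  obtain ⟨i, hi⟩ := card_C_quot hr hjk
  refine ⟨r, i, x ^ j, hr, hrC.trans hA, ⟨k, hjk⟩, (h.nonp hw hP').1, (h.nonp hw hP').2, ?_, hi, hi ▸ hA',
    C_le_pow x j, by rw [QuotientGroup.mk_pow]; exact C_le_pow _ j⟩
  rw [← card_image_C]
  have hne : ((x ^ j : G) : G ⧸ center G) ≠ 1 := fun e => hw (by rw [e, one_pow])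
  obtain ⟨t, -, ht⟩ := (Nat.dvd_prime_pow hr).1 (orderOf_dvd_of_pow_eq_one
    (show ((x ^ j : G) : G ⧸ center G) ^ r ^ k = 1 by rw [← QuotientGroup.mk_pow, hjk, QuotientGroup.mk_one]))
  have ht0 : t ≠ 0 := fun e => hne (orderOf_eq_one_iff.1 (by rw [ht, e, pow_zero]))
  exact (ht ▸ dvd_pow_self r ht0 : r ∣ orderOf ((x ^ j : G) : G ⧸ center G)).trans
    (Subgroup.orderOf_dvd_natCard _ ⟨x ^ j, self_mem _, rfl⟩)

end Hyp

/-- The numerical facts for `q = 4 r + 2 e + 1`. -/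
theorem odd_numeric {r e : ℕ} (he : e ≤ 1) (hr : 1 ≤ r) :
    Nat.Coprime (4 * r + 2 * e + 1) (2 * r + 1) ∧ Nat.Coprime (4 * r + 2 * e + 1) (4 * (r + e)) ∧
    Nat.Coprime (2 * r + 1) (4 * (r + e)) ∧
    (2 * r + 1) * (4 * (r + e)) * 2 + 1 = (4 * r + 2 * e + 1) ^ 2 := by
  have h4 : (2 * r + 1) * (4 * (r + e)) * 2 + 1 = (4 * r + 2 * e + 1) ^ 2 := by
    rcases (show e = 0 ∨ e = 1 by omega) with rfl | rfl <;> ring
  have hq : ∀ k, k.Prime → k ∣ 4 * r + 2 * e + 1 → ¬ k ∣ (2 * r + 1) * (4 * (r + e)) := fun k hk h1 h2 =>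
    hk.one_lt.ne' (Nat.dvd_one.1 ((Nat.dvd_add_right (h2.mul_right 2)).1
      (by rw [h4, pow_two]; exact h1.mul_right _)))
  refine ⟨Nat.coprime_of_dvd fun k hk h1 h2 => hq k hk h1 (h2.mul_right _),
    Nat.coprime_of_dvd fun k hk h1 h2 => hq k hk h1 (h2.mul_left _),
    Nat.coprime_of_dvd fun k hk h1 h2 => ?_, h4⟩
  rcases hk.dvd_mul.1 h2 with h2 | h2
  · obtain rfl := (Nat.prime_dvd_prime_iff_eq hk Nat.prime_two).1 (hk.dvd_of_dvd_pow (show k ∣ 2 ^ 2 from h2))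
    omega
  · rcases (show e = 0 ∨ e = 1 by omega) with rfl | rfl
    · exact hk.one_lt.ne' (Nat.dvd_one.1 ((Nat.dvd_add_right (h2.mul_left 2)).1 (by simpa using h1)))
    · exact hk.one_lt.ne' (Nat.dvd_one.1 ((Nat.dvd_add_right h1).1
        (by rw [show 2 * r + 1 + 1 = 2 * (r + 1) by ring]; exact h2.mul_left 2)))

/-- The five class sizes for odd `q`. -/
structure OddSizes (G : Type*) [Group G] (r e : ℕ) : Prop where
  he : e ≤ 1
  hr : 1 ≤ r
  hr0 : e = 0 → 2 ≤ r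
  all : ∀ x : G, cs x = 1 ∨ cs x = (2 * r + 1) * (4 * (r + e)) ∨ cs x = (4 * r + 2 * e + 1) * (2 * r + 1) ∨
    cs x = (4 * r + 2 * e + 1) * (4 * (r + e)) ∨ cs x = 2 * ((4 * r + 2 * e + 1) * (2 * r + 1))
  exA : ∃ x : G, cs x = (2 * r + 1) * (4 * (r + e))
  exN : ∃ x : G, cs x = (4 * r + 2 * e + 1) * (4 * (r + e))
  exI : ∃ x : G, cs x = (4 * r + 2 * e + 1) * (2 * r + 1)

namespace OddSizes

variable {r e : ℕ} (s : OddSizes G r e)
include s

theorem hyp {p m : ℕ} (hp : p.Prime) (hm : 0 < m) (hq : p ^ m = 4 * r + 2 * e + 1) :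
    Hyp G p m ((2 * r + 1) * (4 * (r + e))) ((4 * r + 2 * e + 1) * (4 * (r + e))) := by
  obtain ⟨hr, he⟩ := s.hr, s.he
  obtain ⟨hqT, hqM, hTM, -⟩ := odd_numeric he hr
  set q := 4 * r + 2 * e + 1 with hqdef
  set T := 2 * r + 1 with hTdef
  set M := 4 * (r + e) with hMdef
  have hq1 : q ≠ 1 := by omega
  have hT1 : T ≠ 1 := by omega
  have hT0 : 0 < T := by omega
  have hq0 : 0 < q := by omega
  have hM0 : 0 < M := by omega
  have hpq : p ∣ q := hq ▸ dvd_pow_self p hm.ne'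
  have nqT : ¬ q ∣ T * M := fun h => hq1 ((hqT.mul_right hqM).eq_one_of_dvd h)
  have nM2 : ¬ M ∣ 2 := fun h => by have := Nat.le_of_dvd two_pos h; omega
  have nTM : ¬ T ∣ M := fun h => hT1 (hTM.eq_one_of_dvd h)
  have nMT : ¬ M ∣ T := fun h => by
    have := hTM.symm.eq_one_of_dvd h
    omega
  have hTM2 : ¬ M ∣ 2 * T := fun h => nM2 (hTM.symm.dvd_of_dvd_mul_right h)
  have hpTM : ¬ p ∣ T * M := fun h => hp.one_lt.ne'
    (Nat.eq_one_of_dvd_coprimes (hqT.mul_right hqM) hpq h)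
  have hTM1 : T * M ≠ 1 := fun e1 => hT1 (Nat.eq_one_of_mul_eq_one_right e1)
  refine ⟨hp, hm, s.exA, s.exN, ⟨hTM1, fun x => ⟨fun h => ?_, fun h => ?_⟩⟩,
    ⟨fun e1 => hq1 (Nat.eq_one_of_mul_eq_one_right e1), fun x => ⟨fun h => ?_, fun h => ?_⟩⟩, hpTM,
    ⟨M, by rw [hq], fun h => hp.one_lt.ne' (Nat.eq_one_of_dvd_coprimes hqM hpq h)⟩, fun x h1 hA => ?_,
    fun l hl hlp => ?_⟩
  · rcases s.all x with h1 | h1 | h1 | h1 | h1 <;> rw [h1] at h ⊢
    · exact Or.inl rfl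
    · exact Or.inr rfl
    · exact absurd ((Dvd.intro T rfl).trans h) nqT
    · exact absurd ((Dvd.intro M rfl).trans h) nqT
    · exact absurd (((Dvd.intro T rfl).mul_left 2).trans h) nqT
  · rcases s.all x with h1 | h1 | h1 | h1 | h1 <;> rw [h1] at h ⊢
    · exact absurd (Nat.dvd_one.1 h) hTM1
    · exfalso
      rw [mul_comm q T] at h
      have := hqM.symm.eq_one_of_dvd (Nat.dvd_of_mul_dvd_mul_left hT0 h)
      omega
    · exfalso
      rw [mul_comm T M, mul_comm q M] at h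
      exact hT1 (hqT.symm.eq_one_of_dvd (Nat.dvd_of_mul_dvd_mul_left hM0 h))
    · exfalso
      rw [show 2 * (q * T) = T * (2 * q) by ring] at h
      exact nM2 (hqM.symm.dvd_of_dvd_mul_right (Nat.dvd_of_mul_dvd_mul_left hT0 h))
  · rcases s.all x with h1 | h1 | h1 | h1 | h1 <;> rw [h1] at h ⊢
    · exact Or.inl rfl
    · exact absurd (hTM.dvd_of_dvd_mul_right ((Dvd.intro M rfl).trans h)) (fun hh =>
        hT1 (Nat.eq_one_of_dvd_coprimes hqT hh dvd_rfl))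
    · exact absurd (Nat.dvd_of_mul_dvd_mul_left hq0 h) nTM
    · exact Or.inr rfl
    · exact absurd (Nat.dvd_of_mul_dvd_mul_left hq0
        (((dvd_mul_left (q * T) 2)).trans h)) nTM
  · rcases s.all x with h1 | h1 | h1 | h1 | h1 <;> rw [h1] at h ⊢
    · exact absurd (Nat.eq_one_of_mul_eq_one_right (Nat.dvd_one.1 h)) hq1
    · exact absurd ((Dvd.intro M rfl).trans h) nqT
    · exact absurd (Nat.dvd_of_mul_dvd_mul_left hq0 h) nMT
    · rw [show 2 * (q * T) = q * (2 * T) by ring] at h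
      exact absurd (Nat.dvd_of_mul_dvd_mul_left hq0 h) hTM2
  · rw [hq]
    rcases s.all x with h2 | h2 | h2 | h2 | h2 <;> rw [h2]
    · exact absurd h2 h1
    · exact absurd h2 hA
    · exact Dvd.intro T rfl
    · exact Dvd.intro M rfl
    · exact (Dvd.intro T rfl).mul_left 2
  · by_cases hlM : l ∣ M
    · obtain ⟨x, hx⟩ := s.exI
      refine ⟨x, fun e1 => ?_, fun e1 => ?_, fun hd => ?_⟩
      · rw [hx] at e1; exact hq1 (Nat.eq_one_of_mul_eq_one_right e1)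
      · rw [hx] at e1; exact nqT (e1 ▸ Dvd.intro T rfl)
      · rw [hx] at hd
        rcases hl.dvd_mul.1 hd with h1 | h1
        · exact hlp ((Nat.prime_dvd_prime_iff_eq hl hp).1 (hl.dvd_of_dvd_pow (show l ∣ p ^ m by rw [hq]; exact h1)))
        · exact hl.one_lt.ne' (Nat.eq_one_of_dvd_coprimes hTM h1 hlM)
    · obtain ⟨x, hx⟩ := s.exN
      refine ⟨x, fun e1 => ?_, fun e1 => ?_, fun hd => ?_⟩
      · rw [hx] at e1; exact hq1 (Nat.eq_one_of_mul_eq_one_right e1)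
      · rw [hx] at e1; exact nqT (e1 ▸ Dvd.intro M rfl)
      · rw [hx] at hd
        rcases hl.dvd_mul.1 hd with h1 | h1
        · exact hlp ((Nat.prime_dvd_prime_iff_eq hl hp).1 (hl.dvd_of_dvd_pow (show l ∣ p ^ m by rw [hq]; exact h1)))
        · exact hlM h1

/-- The orders of the images of the centralisers outside the `p`-elements. -/
theorem zc_cases {p m : ℕ} (hp : p.Prime) (hm : 0 < m) (hq : p ^ m = 4 * r + 2 * e + 1) {x : G}
    (h1 : cs x ≠ 1) (hA : cs x ≠ (2 * r + 1) * (4 * (r + e))) :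
    (zc x = 2 * r + 1 ∧ cs x = (4 * r + 2 * e + 1) * (4 * (r + e))) ∨ zc x = 2 * (r + e) ∨
      zc x = 4 * (r + e) := by
  have hr := s.hr
  have h2 := zc_mul_cs x
  rw [(s.hyp hp hm hq).center_index, hq] at h2
  have hpos : 0 < cs x := Nat.pos_of_ne_zero (cs_ne_zero x)
  rcases s.all x with h | h | h | h | h
  · exact absurd h h1
  · exact absurd h hA
  · refine Or.inr (Or.inr (Nat.eq_of_mul_eq_mul_right hpos (h2.trans ?_)))
    rw [h]; ring
  · refine Or.inl ⟨Nat.eq_of_mul_eq_mul_right hpos (h2.trans ?_), h⟩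
    rw [h]; ring
  · refine Or.inr (Or.inl (Nat.eq_of_mul_eq_mul_right hpos (h2.trans ?_)))
    rw [h]; ring

theorem odata {p m : ℕ} (hp : p.Prime) (hm : 0 < m) (hq : p ^ m = 4 * r + 2 * e + 1) :
    OData (G ⧸ center G) p m r e := by
  obtain ⟨hr, he⟩ := s.hr, s.he
  obtain ⟨hqT, hqM, hTM, hAd⟩ := odd_numeric he hr
  have H := s.hyp hp hm hq
  have D : PData (G ⧸ center G) p m ((2 * r + 1) * (4 * (r + e))) 2 :=
    H.pdata (by omega) (by rw [hq, hAd]) ⟨one_le_two, le_rfl⟩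
  have hMe : ∀ z, (z = 2 * r + 1 ∨ z = 2 * (r + e) ∨ z = 4 * (r + e)) → z ∣ 2 * r + 1 → z = 2 * r + 1 := by
    rintro z (rfl | rfl | rfl) hz
    · rfl
    · exact absurd ((Dvd.intro (r + e) rfl).trans hz) (by omega)
    · exact absurd ((show (2 : ℕ) ∣ 4 * (r + e) from ⟨2 * (r + e), by ring⟩).trans hz) (by omega)
  have key : ∀ x : G, (x : G ⧸ center G) ^ p ^ m ≠ 1 →
      Nat.card (C (x : G ⧸ center G)) = 2 * r + 1 ∨ Nat.card (C (x : G ⧸ center G)) = 2 * (r + e) ∨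
        Nat.card (C (x : G ⧸ center G)) = 4 * (r + e) := by
    intro x hx
    obtain ⟨l, i, w, hl, hlA, -, hw1, hwA, hlz, hcard, hdvd, -, hle⟩ := H.component D hx
    obtain ⟨hP, -⟩ := D.cent_dvd hx
    obtain ⟨h1, hA⟩ := H.nonp hx hP
    have hzx : zc x = 2 * r + 1 ∨ zc x = 2 * (r + e) ∨ zc x = 4 * (r + e) :=
      (s.zc_cases hp hm hq h1 hA).imp And.left id
    have hzd := zc_dvd x
    have hcd := card_dvd_of_le hle
    -- the component
    have hcw : Nat.card (C (w : G ⧸ center G)) = 2 * r + 1 ∨ Nat.card (C (w : G ⧸ center G)) = 2 * (r + e) ∨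
        Nat.card (C (w : G ⧸ center G)) = 4 * (r + e) := by
      rw [hcard]
      rcases (s.zc_cases hp hm hq hw1 hwA).imp And.left id with hz | hz | hz <;> rw [hz] at hlz hdvd ⊢
      · have h2 : l ^ i ∣ 4 * (r + e) := Nat.dvd_of_mul_dvd_mul_left (by omega) hdvd
        have h3 : l ^ i = 1 := Nat.eq_one_of_dvd_coprimes ((hTM.coprime_dvd_left hlz).pow_left i) dvd_rfl h2
        rw [h3, mul_one]; exact Or.inl rfl
      · have h2 : l ^ i ∣ (2 * r + 1) * 2 := Nat.dvd_of_mul_dvd_mul_left (show 0 < 2 * (r + e) by omega)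
          (by rwa [show 2 * (r + e) * ((2 * r + 1) * 2) = (2 * r + 1) * (4 * (r + e)) by ring])
        have hlT : Nat.Coprime (l ^ i) (2 * r + 1) :=
          (Nat.Coprime.coprime_dvd_right hlz (hTM.coprime_dvd_right ⟨2, by ring⟩)).symm.pow_left i
        rcases (Nat.dvd_prime Nat.prime_two).1 (hlT.dvd_of_dvd_mul_left h2) with h3 | h3 <;> rw [h3]
        · exact Or.inr (Or.inl (mul_one _))
        · exact Or.inr (Or.inr (by ring))
      · have h2 : l ^ i ∣ 2 * r + 1 := Nat.dvd_of_mul_dvd_mul_left (show 0 < 4 * (r + e) by omega)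
          (by rwa [mul_comm (4 * (r + e)) (2 * r + 1)])
        have h3 : l ^ i = 1 := Nat.eq_one_of_dvd_coprimes ((hTM.symm.coprime_dvd_left hlz).pow_left i) dvd_rfl h2
        rw [h3, mul_one]; exact Or.inr (Or.inr rfl)
    rcases hcw with hc | hc | hc
    · refine Or.inl (Nat.dvd_antisymm (hc ▸ hcd) ?_)
      have := hMe _ hzx (hzd.trans (hc ▸ hcd))
      exact this ▸ hzd
    all_goals
      have h4 : Nat.card (C (x : G ⧸ center G)) ∣ 4 * (r + e) :=
        (hc ▸ hcd).trans (by first | exact dvd_rfl | exact ⟨2, by ring⟩)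
      have h5 : 2 * (r + e) ∣ Nat.card (C (x : G ⧸ center G)) := by
        rcases hzx with hz | hz | hz
        · exact absurd (hTM.eq_one_of_dvd ((hz ▸ hzd).trans h4)) (by omega)
        · exact hz ▸ hzd
        · exact (show 2 * (r + e) ∣ 4 * (r + e) from ⟨2, by ring⟩).trans (hz ▸ hzd)
      obtain ⟨v, hv⟩ := h5
      rw [hv] at h4 ⊢
      have h6 : v ∣ 2 := Nat.dvd_of_mul_dvd_mul_left (show 0 < 2 * (r + e) by omega)
        (by rwa [show 2 * (r + e) * 2 = 4 * (r + e) by ring])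
      rcases (Nat.dvd_prime Nat.prime_two).1 h6 with rfl | rfl
      · exact Or.inr (Or.inl (mul_one _))
      · exact Or.inr (Or.inr (by ring))
  refine ⟨D, he, hr, s.hr0, hq, fun x hx => ?_, ?_⟩
  · obtain ⟨g, rfl⟩ := QuotientGroup.mk_surjective x
    exact key g hx
  by_cases hpow : ∃ l k, l.Prime ∧ 2 * r + 1 = l ^ k
  · exact Or.inr hpow
  refine Or.inl fun x hxT => ?_
  obtain ⟨g, rfl⟩ := QuotientGroup.mk_surjective x
  have hgq : (g : G ⧸ center G) ^ p ^ m ≠ 1 := fun e1 => by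
    by_cases hg1 : (g : G ⧸ center G) = 1
    · rw [hg1] at hxT
      rw [show C (1 : G ⧸ center G) = ⊤ from eq_top_iff.2 fun x _ => mem_C.2 (by simp), Subgroup.card_top,
        D.card, hq] at hxT
      have h7 : (4 * r + 2 * e + 1) * 1 ≤ (4 * r + 2 * e + 1) * ((2 * r + 1) * (4 * (r + e))) :=
        Nat.mul_le_mul_left _ D.A_pos
      omega
    · rw [D.cent _ hg1 e1, hq] at hxT
      omega
  obtain ⟨hP, -⟩ := D.cent_dvd hgq
  obtain ⟨h1, hA⟩ := H.nonp hgq hP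
  have hzd := zc_dvd g
  rw [hxT] at hzd
  have hz := hMe _ ((s.zc_cases hp hm hq h1 hA).imp And.left id) hzd
  have hN : cs g = (4 * r + 2 * e + 1) * (4 * (r + e)) := by
    rcases s.zc_cases hp hm hq h1 hA with ⟨-, h⟩ | h | h
    · exact h
    · omega
    · omega
  have heq : (C g).map (QuotientGroup.mk' (center G)) = C (g : G ⧸ center G) :=
    eq_of_le_of_card_ge (image_le g) (by rw [card_image_C, hxT, hz])
  obtain ⟨l, j, k, hl, hlk, hC, hN'⟩ := exists_primary H.extN hN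
  rcases central_or_abelian H.extN hl hN' hlk with hc | hc
  · exfalso
    refine hpow ⟨l, ?_⟩
    have hd : ∀ a : ((C g).map (QuotientGroup.mk' (center G))), ∃ t, a ^ l ^ t = 1 := by
      rintro ⟨_, a, ha, rfl⟩
      obtain ⟨u, w, i1, i2, hum, hwm, hur, ⟨t, ht⟩, hau⟩ := two_parts hl a
      refine ⟨t, Subtype.ext ?_⟩
      show (a : G ⧸ center G) ^ l ^ t = 1
      rw [hau, QuotientGroup.mk_mul, QuotientGroup.mk_zpow, QuotientGroup.mk_zpow,
        (QuotientGroup.eq_one_iff u).2 (hc u (hC ▸ zpowers_le.2 ha hum) hur), one_zpow, one_mul,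
        ← zpow_natCast, ← zpow_mul, mul_comm, zpow_mul, zpow_natCast, ← QuotientGroup.mk_pow, ht,
        QuotientGroup.mk_one, one_zpow]
    haveI : Fact l.Prime := ⟨hl⟩
    obtain ⟨t, ht⟩ := IsPGroup.exists_card_eq
      (show IsPGroup l ((C g).map (QuotientGroup.mk' (center G))) from hd)
    rw [card_image_C, hz] at ht
    exact ⟨t, hl, ht⟩
  · rw [← heq]
    rintro _ ⟨a, ha, rfl⟩ _ ⟨b, hb, rfl⟩
    rw [← map_mul, ← map_mul, hc a (hC.symm ▸ ha) b (hC.symm ▸ hb)]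

/-- The central quotient for odd `q`. -/
theorem quot_iso {p m : ℕ} (hp : p.Prime) (hm : 0 < m) (hq : p ^ m = 4 * r + 2 * e + 1)
    {F : Type*} [Field F] [Fintype F] (hF : Fintype.card F = p ^ m) :
    Nonempty (G ⧸ center G ≃* Matrix.ProjectiveSpecialLinearGroup (Fin 2) F) := by
  have O := s.odata hp hm hq
  obtain ⟨hr, he⟩ := s.hr, s.he
  refine O.base.iso_psl O.sylow_comm hF (fun h => absurd h (by omega)) fun x hx _ => ?_
  have h1 : 4 * (r + e) < (2 * r + 1) * (4 * (r + e)) :=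
    lt_mul_left (by omega) (by omega)
  have h2 : 2 * r + 1 < (2 * r + 1) * (4 * (r + e)) := lt_mul_right (by omega) (by omega)
  rcases O.oth x hx with h | h | h <;> omega

end OddSizes

/-- The four class sizes for `q = 2 ^ m`. -/
structure EvenSizes (G : Type*) [Group G] (m : ℕ) : Prop where
  hm : 2 ≤ m
  all : ∀ x : G, cs x = 1 ∨ cs x = (2 ^ m) ^ 2 - 1 ∨ cs x = 2 ^ m * (2 ^ m - 1) ∨ cs x = 2 ^ m * (2 ^ m + 1)
  exA : ∃ x : G, cs x = (2 ^ m) ^ 2 - 1
  exN : ∃ x : G, cs x = 2 ^ m * (2 ^ m - 1)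
  exP : ∃ x : G, cs x = 2 ^ m * (2 ^ m + 1)

namespace EvenSizes

variable {m : ℕ} (s : EvenSizes G m)
include s

theorem numeric : 4 ≤ 2 ^ m ∧ (2 ^ m) ^ 2 - 1 = (2 ^ m + 1) * (2 ^ m - 1) ∧
    Nat.Coprime (2 ^ m + 1) (2 ^ m - 1) ∧ ¬ 2 ∣ (2 ^ m) ^ 2 - 1 ∧
    Nat.Coprime (2 ^ m) ((2 ^ m) ^ 2 - 1) := by
  have h4 : 4 ≤ 2 ^ m := le_trans (by norm_num) (Nat.pow_le_pow_right two_pos s.hm)
  obtain ⟨t, ht⟩ : 2 ∣ 2 ^ m := dvd_pow_self 2 (by have := s.hm; omega)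
  have hsq : (2 ^ m) ^ 2 - 1 = (2 ^ m + 1) * (2 ^ m - 1) := by rw [← Nat.sq_sub_sq, one_pow]
  have h2 : ¬ 2 ∣ (2 ^ m) ^ 2 - 1 := by
    rw [hsq]
    exact Nat.prime_two.not_dvd_mul (by omega) (by omega)
  refine ⟨h4, hsq, Nat.coprime_of_dvd fun k hk h1 h3 => ?_, h2, (Nat.prime_two.coprime_iff_not_dvd.2 h2).pow_left m⟩
  have h5 : k ∣ 2 := by
    have := Nat.dvd_sub h1 h3
    rwa [show 2 ^ m + 1 - (2 ^ m - 1) = 2 by omega] at this
  obtain rfl := (Nat.prime_dvd_prime_iff_eq hk Nat.prime_two).1 h5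
  exact h2 (hsq ▸ h1.mul_right _)

theorem hyp : Hyp G 2 m ((2 ^ m) ^ 2 - 1) (2 ^ m * (2 ^ m - 1)) := by
  obtain ⟨h4, hsq, hco, h2, hqA⟩ := s.numeric
  set q := 2 ^ m with hqdef
  have hq1 : q ≠ 1 := by omega
  have hq0 : 0 < q := by omega
  have nqA : ¬ q ∣ q ^ 2 - 1 := fun h => hq1 (hqA.eq_one_of_dvd h)
  have nAdiv : ∀ u, q ^ 2 - 1 ∣ q * u → q ^ 2 - 1 ∣ u := fun u h => hqA.symm.dvd_of_dvd_mul_left h
  have nA1 : q ^ 2 - 1 ≠ 1 := by
    rw [hsq]
    exact fun e => absurd (Nat.eq_one_of_mul_eq_one_left e) (by omega)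
  have nmp : ¬ q - 1 ∣ q + 1 := fun h => by have := hco.symm.eq_one_of_dvd h; omega
  have npm : ¬ q + 1 ∣ q - 1 := fun h => by have := hco.eq_one_of_dvd h; omega
  refine ⟨Nat.prime_two, by have := s.hm; omega, s.exA, s.exN, ⟨nA1, fun x => ⟨fun h => ?_, fun h => ?_⟩⟩,
    ⟨fun e => hq1 (Nat.eq_one_of_mul_eq_one_right e), fun x => ⟨fun h => ?_, fun h => ?_⟩⟩, h2,
    ⟨q - 1, rfl, by have := dvd_pow_self 2 (show m ≠ 0 by have := s.hm; omega); omega⟩, fun x h1 hA => ?_,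
    fun l hl hl2 => ?_⟩
  · rcases s.all x with h1 | h1 | h1 | h1 <;> rw [h1] at h ⊢
    · exact Or.inl rfl
    · exact Or.inr rfl
    · exact absurd ((Dvd.intro _ rfl).trans h) nqA
    · exact absurd ((Dvd.intro _ rfl).trans h) nqA
  · rcases s.all x with h1 | h1 | h1 | h1 <;> rw [h1] at h ⊢
    · exact absurd (Nat.dvd_one.1 h) nA1
    · exact absurd ((hsq ▸ Dvd.intro _ rfl : q + 1 ∣ q ^ 2 - 1).trans (nAdiv _ h)) npm
    · exact absurd ((hsq ▸ Dvd.intro_left _ rfl : q - 1 ∣ q ^ 2 - 1).trans (nAdiv _ h)) nmp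
  · rcases s.all x with h1 | h1 | h1 | h1 <;> rw [h1] at h ⊢
    · exact Or.inl rfl
    · exact absurd ((hsq ▸ Dvd.intro _ rfl : q + 1 ∣ q ^ 2 - 1).trans (nAdiv _ h)) npm
    · exact Or.inr rfl
    · exact absurd (Nat.dvd_of_mul_dvd_mul_left hq0 h) npm
  · rcases s.all x with h1 | h1 | h1 | h1 <;> rw [h1] at h ⊢
    · exact absurd (Nat.eq_one_of_mul_eq_one_right (Nat.dvd_one.1 h)) hq1
    · exact absurd ((Dvd.intro _ rfl).trans h) nqA
    · exact absurd (Nat.dvd_of_mul_dvd_mul_left hq0 h) nmp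
  · rcases s.all x with h3 | h3 | h3 | h3 <;> rw [h3]
    · exact absurd h3 h1
    · exact absurd h3 hA
    · exact Dvd.intro _ rfl
    · exact Dvd.intro _ rfl
  · have hlq : ¬ l ∣ q := fun h => hl2 ((Nat.prime_dvd_prime_iff_eq hl Nat.prime_two).1 (hl.dvd_of_dvd_pow h))
    by_cases hlm : l ∣ q - 1
    · obtain ⟨x, hx⟩ := s.exP
      refine ⟨x, fun e => ?_, fun e => ?_, fun hd => ?_⟩
      · rw [hx] at e; exact hq1 (Nat.eq_one_of_mul_eq_one_right e)
      · rw [hx] at e; exact nqA (e ▸ Dvd.intro _ rfl)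
      · rw [hx] at hd
        exact (hl.dvd_mul.1 hd).elim hlq fun h => hl.one_lt.ne' (Nat.eq_one_of_dvd_coprimes hco h hlm)
    · obtain ⟨x, hx⟩ := s.exN
      refine ⟨x, fun e => ?_, fun e => ?_, fun hd => ?_⟩
      · rw [hx] at e; exact hq1 (Nat.eq_one_of_mul_eq_one_right e)
      · rw [hx] at e; exact nqA (e ▸ Dvd.intro _ rfl)
      · rw [hx] at hd
        exact (hl.dvd_mul.1 hd).elim hlq hlm

theorem pdata : PData (G ⧸ center G) 2 m ((2 ^ m) ^ 2 - 1) 1 :=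
  s.hyp.pdata s.numeric.1 (by have := s.numeric.1; have : 1 ≤ (2 ^ m) ^ 2 := Nat.one_le_pow _ _ (by omega); omega)
    ⟨le_rfl, one_le_two⟩

theorem sylow_comm (P : Sylow 2 (G ⧸ center G)) :
    ∀ a ∈ (P : Subgroup (G ⧸ center G)), ∀ b ∈ (P : Subgroup (G ⧸ center G)), a * b = b * a :=
  s.pdata.comm_of_one rfl rfl P

/-- The central quotient for even `q`. -/
theorem quot_iso {F : Type*} [Field F] [Fintype F] (hF : Fintype.card F = 2 ^ m) :
    Nonempty (G ⧸ center G ≃* Matrix.ProjectiveSpecialLinearGroup (Fin 2) F) := by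
  refine s.pdata.iso_psl s.sylow_comm hF (fun _ => rfl) fun x hx _ hcard => ?_
  obtain ⟨h4, hsq, hco, -, hqA⟩ := s.numeric
  obtain ⟨g, rfl⟩ := QuotientGroup.mk_surjective x
  obtain ⟨l, i, w, hl, -, -, hw1, hwA, hlz, hcw, -, -, hle⟩ := s.hyp.component s.pdata hx
  have hd := card_dvd_of_le hle
  rw [hcard, hcw] at hd
  have h2 := zc_mul_cs w
  rw [s.hyp.center_index] at h2
  have hpos : 0 < cs w := Nat.pos_of_ne_zero (cs_ne_zero w)
  have key : ∀ u v, (2 ^ m) ^ 2 - 1 = u * v → Nat.Coprime u v → v ≠ 1 → zc w = u → False := by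
    intro u v huv hc hv hz
    rw [hz] at hd hlz
    rw [huv] at hd
    obtain ⟨l', hl', hd'⟩ := Nat.exists_prime_and_dvd hv
    rcases hl'.dvd_mul.1 ((hd'.mul_left u).trans hd) with h1 | h1
    · exact hl'.one_lt.ne' (Nat.eq_one_of_dvd_coprimes hc h1 hd')
    · rw [(Nat.prime_dvd_prime_iff_eq hl' hl).1 (hl'.dvd_of_dvd_pow h1)] at hd'
      exact hl.one_lt.ne' (Nat.eq_one_of_dvd_coprimes hc hlz hd')
  rcases s.all w with h | h | h | h
  · exact hw1 h
  · exact hwA h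
  · refine key (2 ^ m + 1) (2 ^ m - 1) hsq hco (by omega) (Nat.eq_of_mul_eq_mul_right hpos (h2.trans ?_))
    rw [h, hsq]; ring
  · refine key (2 ^ m - 1) (2 ^ m + 1) (hsq.trans (mul_comm _ _)) hco.symm (by omega)
      (Nat.eq_of_mul_eq_mul_right hpos (h2.trans ?_))
    rw [h, hsq]; ring

end EvenSizes

variable {F : Type*} [Field F] [Fintype F]

theorem oddSizes_of (hodd : ¬ 2 ∣ Fintype.card F) (h7 : 7 ≤ Fintype.card F)
    (h : Set.range (fun g : G => (Subgroup.centralizer ({g} : Set G)).index) =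
      Set.range (fun g : (Matrix.ProjectiveSpecialLinearGroup (Fin 2) F) =>
        (Subgroup.centralizer ({g} : Set (Matrix.ProjectiveSpecialLinearGroup (Fin 2) F))).index)) :
    ∃ r e, OddSizes G r e ∧ Fintype.card F = 4 * r + 2 * e + 1 := by
  set q := Fintype.card F with hq
  obtain ⟨h1, h3⟩ := Cfsg.Agent.S2508.result hodd h7
  rcases (show q % 4 = 1 ∨ q % 4 = 3 by omega) with h4 | h4
  · obtain ⟨r, hr⟩ : ∃ r, q = 4 * r + 1 := ⟨q / 4, by omega⟩
    have hset := h.trans (h1 h4)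
    have eA : (q ^ 2 - 1) / 2 = (2 * r + 1) * (4 * (r + 0)) := by
      rw [show q ^ 2 - 1 = 2 * ((2 * r + 1) * (4 * (r + 0))) by
        rw [hr, show (4 * r + 1) ^ 2 = 2 * ((2 * r + 1) * (4 * (r + 0))) + 1 by ring, Nat.add_sub_cancel]]
      omega
    have eI : q * (q + 1) / 2 = (4 * r + 2 * 0 + 1) * (2 * r + 1) := by
      rw [show q * (q + 1) = 2 * ((4 * r + 2 * 0 + 1) * (2 * r + 1)) by rw [hr]; ring]
      omega
    have eN : q * (q - 1) = (4 * r + 2 * 0 + 1) * (4 * (r + 0)) := by rw [hr, Nat.add_sub_cancel]; ring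
    have eP : q * (q + 1) = 2 * ((4 * r + 2 * 0 + 1) * (2 * r + 1)) := by rw [hr]; ring
    rw [eA, eI, eN, eP] at hset
    refine ⟨r, 0, ⟨Nat.zero_le _, by omega, fun _ => by omega, fun x => ?_, ?_, ?_, ?_⟩, hr⟩
    · have := hset.le ⟨x, rfl⟩
      simpa only [Set.mem_insert_iff, Set.mem_singleton_iff] using this
    all_goals exact hset.ge (by simp)
  · obtain ⟨r, hr⟩ : ∃ r, q = 4 * r + 3 := ⟨q / 4, by omega⟩
    have hset := h.trans (h3 h4)
    have eA : (q ^ 2 - 1) / 2 = (2 * r + 1) * (4 * (r + 1)) := by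
      rw [show q ^ 2 - 1 = 2 * ((2 * r + 1) * (4 * (r + 1))) by
        rw [hr, show (4 * r + 3) ^ 2 = 2 * ((2 * r + 1) * (4 * (r + 1))) + 1 by ring, Nat.add_sub_cancel]]
      omega
    have eI : q * (q - 1) / 2 = (4 * r + 2 * 1 + 1) * (2 * r + 1) := by
      rw [show q * (q - 1) = 2 * ((4 * r + 2 * 1 + 1) * (2 * r + 1)) by
        rw [hr, show 4 * r + 3 - 1 = 4 * r + 2 by omega]; ring]
      omega
    have eN : q * (q + 1) = (4 * r + 2 * 1 + 1) * (4 * (r + 1)) := by rw [hr]; ring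
    have eP : q * (q - 1) = 2 * ((4 * r + 2 * 1 + 1) * (2 * r + 1)) := by
      rw [hr, show 4 * r + 3 - 1 = 4 * r + 2 by omega]; ring
    rw [eA, eI, eN, eP] at hset
    refine ⟨r, 1, ⟨le_rfl, by omega, fun e => by omega, fun x => ?_, ?_, ?_, ?_⟩, hr⟩
    · have := hset.le ⟨x, rfl⟩
      simpa only [Set.mem_insert_iff, Set.mem_singleton_iff] using this
    all_goals exact hset.ge (by simp)

theorem evenSizes_of (h2 : 2 ∣ Fintype.card F) (h4 : 2 < Fintype.card F)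
    (h : Set.range (fun g : G => (Subgroup.centralizer ({g} : Set G)).index) =
      Set.range (fun g : (Matrix.ProjectiveSpecialLinearGroup (Fin 2) F) =>
        (Subgroup.centralizer ({g} : Set (Matrix.ProjectiveSpecialLinearGroup (Fin 2) F))).index)) :
    ∃ m, EvenSizes G m ∧ Fintype.card F = 2 ^ m := by
  obtain ⟨p, -, ⟨m, hm⟩, hp, hF⟩ := FiniteField.card' F
  obtain rfl : 2 = p := (Nat.prime_dvd_prime_iff_eq Nat.prime_two hp).1
    (Nat.prime_two.dvd_of_dvd_pow (hF ▸ h2))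
  change Fintype.card F = 2 ^ m at hF
  have hm2 : 2 ≤ m := by
    by_contra hlt
    obtain rfl : m = 1 := by omega
    rw [hF] at h4
    omega
  have hset := h.trans (Cfsg.Agent.S2507.result h2 (by
    rw [hF]; exact le_trans (by norm_num) (Nat.pow_le_pow_right two_pos hm2)))
  rw [hF] at hset
  refine ⟨m, ⟨hm2, fun x => ?_, ?_, ?_, ?_⟩, hF⟩
  · have := hset.le ⟨x, rfl⟩
    simp only [Set.mem_insert_iff, Set.mem_singleton_iff] at this
    tauto
  all_goals exact hset.ge (by simp)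

end CfsgLib.Char.PslSizes
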