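import Cfsg.Agent.Lib.Char.PslClassSizes.Quot
import Cfsg.Agent.S0261
import Cfsg.Agent.S0262
import Mathlib.GroupTheory.Transfer

/-!
# The centre splits off
-/

set_option autoImplicit false
set_option linter.unusedSectionVars false
set_option linter.style.haveILetI false

namespace CfsgLib.Char.PslSizes

open Subgroup
open scoped _root_.Classical commutatorElement

variable {G : Type*} [Group G] [Finite G]

/-- Central elements of the derived group lie in the derived group of their Sylow subgroup. -/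
theorem central_mem_derived {r : ℕ} [Fact r.Prime] (S : Sylow r G) {z : G} (hz : z ∈ center G)
    (hzG : z ∈ commutator G) (hzS : z ∈ (S : Subgroup G)) :
    (⟨z, hzS⟩ : (S : Subgroup G)) ∈ commutator (S : Subgroup G) := by
  let φ : (S : Subgroup G) →* Abelianization (S : Subgroup G) := Abelianization.of
  have h1 : MonoidHom.transfer φ z = 1 := Abelianization.commutator_subset_ker _ hzG
  rw [MonoidHom.transfer_eq_pow _ _ fun k g₀ _ => by
    rw [mul_assoc, ← (mem_center_iff.1 (pow_mem hz k) g₀), inv_mul_cancel_left]] at h1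
  have h2 : (⟨z, hzS⟩ : (S : Subgroup G)) ^ (S : Subgroup G).index ∈ commutator (S : Subgroup G) :=
    (QuotientGroup.eq_one_iff _).1 h1
  obtain ⟨i, hi⟩ := S.2 ⟨z, hzS⟩
  have hr : r.Prime := Fact.out
  have hco : ((S : Subgroup G).index).Coprime (orderOf (⟨z, hzS⟩ : (S : Subgroup G))) :=
    (((hr.coprime_iff_not_dvd.2 S.not_dvd_index).pow_left i).symm).coprime_dvd_right (orderOf_dvd_of_pow_eq_one hi)
  obtain ⟨m, hm⟩ := exists_pow_eq_self_of_coprime hco
  exact hm ▸ pow_mem h2 m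

theorem commutator_eq_bot_of_comm {H : Type*} [Group H] (h : ∀ a b : H, a * b = b * a) : commutator H = ⊥ :=
  eq_bot_iff.2 (commutator_le.2 fun a _ b _ => mem_bot.2 (commutatorElement_eq_one_iff_mul_comm.2 (h a b)))

/-- Two commuting generators modulo central elements. -/
theorem comm_of_shape {H : Type*} [Group H] {a b : H} (hab : Commute a b) (D : H → Prop)
    (hD : ∀ z, D z → ∀ g : H, Commute g z)
    (hshape : ∀ s : H, ∃ (i : ℕ) (z : H), D z ∧ (s = a ^ i * z ∨ s = b * a ^ i * z)) :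
    ∀ x y : H, x * y = y * x := by
  have key : ∀ u : H, Commute u a → Commute u b → ∀ y, Commute u y := fun u ha hb y => by
    obtain ⟨i, z, hz, rfl | rfl⟩ := hshape y
    · exact (ha.pow_right i).mul_right (hD z hz u)
    · exact (hb.mul_right (ha.pow_right i)).mul_right (hD z hz u)
  intro x y
  exact (key y (key a (Commute.refl a) hab y).symm (key b hab.symm (Commute.refl b) y).symm x).symm.eq

/-- A group with dihedral-like presentation whose central element is a power of the rotation. -/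
theorem commutator_inf_eq_one {H Q : Type*} [Group H] [Finite H] [Group Q] (f : H →* Q) (hH : IsPGroup 2 H)
    (hker : ∀ z, f z = 1 → ∀ g : H, Commute g z) {a b z0 s : H} (hba : b * a * b⁻¹ = a⁻¹ * z0) (hz0 : f z0 = 1)
    (hshape : ∀ x : H, ∃ (i : ℕ) (z : H), f z = 1 ∧ (x = a ^ i * z ∨ x = b * a ^ i * z))
    (hs : ∀ g : H, Commute g s) (hs1 : f s ≠ 1) (hs2 : f s * f s = 1) {w : H} (hw : w ∈ commutator H)
    (hwf : f w = 1) : w = 1 := by
  obtain ⟨i, z, hz, hse | hse⟩ := hshape s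
  swap
  · -- the central element lies outside the rotations
    have hab : Commute a b := by
      have h1 : Commute a (b * a ^ i * z) := hse ▸ hs a
      have h2 : Commute a (b * a ^ i) := by
        have := h1.mul_right (hker z hz a).inv_right
        rwa [mul_inv_cancel_right] at this
      have h3 := h2.mul_right ((Commute.refl a).pow_right i).inv_right
      rwa [mul_inv_cancel_right] at h3
    rw [commutator_eq_bot_of_comm (comm_of_shape hab (fun z => f z = 1) hker hshape), mem_bot] at hw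
    exact hw
  have hai : ∀ g : H, Commute g (a ^ i) := fun g => by
    have := (hs g).mul_right (hker z hz g).inv_right
    rwa [hse, mul_inv_cancel_right] at this
  set c := b * a * b⁻¹ * a⁻¹ with hc
  have hz0c := hker z0 hz0
  have hca : Commute a c := by
    rw [hc, hba]
    exact ((Commute.refl a).inv_right.mul_right (hz0c a)).mul_right (Commute.refl a).inv_right
  have hcb : b * c * b⁻¹ = c⁻¹ := by
    have e1 : a⁻¹ * z0 = z0 * a⁻¹ := hz0c a⁻¹
    have e2 : b * z0 * b⁻¹ = z0 := by rw [(hz0c b).eq, mul_inv_cancel_right]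
    calc b * c * b⁻¹ = b * (a⁻¹ * z0 * a⁻¹) * b⁻¹ := by rw [hc, hba]
      _ = (b * a * b⁻¹)⁻¹ * (b * z0 * b⁻¹) * (b * a * b⁻¹)⁻¹ := by group
      _ = (a⁻¹ * z0)⁻¹ * z0 * (a⁻¹ * z0)⁻¹ := by rw [e2, hba]
      _ = a * (z0⁻¹ * a) := by rw [mul_inv_rev, inv_inv, ← (hz0c a).inv_right.eq]; group
      _ = c⁻¹ := by rw [hc, hba]; group
  have hKn : (zpowers c).Normal := ⟨fun n hn g => by
    obtain ⟨k, rfl⟩ := mem_zpowers_iff.1 hn
    obtain ⟨j, z', hz', rfl | rfl⟩ := hshape g
    · have e : Commute (a ^ j * z') (c ^ k) :=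
        ((hca.pow_left j).mul_left (hker z' hz' c).symm).zpow_right k
      rw [e.eq, mul_inv_cancel_right]
      exact zpow_mem (mem_zpowers c) k
    · have e : Commute (a ^ j * z') (c ^ k) :=
        ((hca.pow_left j).mul_left (hker z' hz' c).symm).zpow_right k
      rw [show b * a ^ j * z' * c ^ k * (b * a ^ j * z')⁻¹ =
        b * (a ^ j * z' * c ^ k * (a ^ j * z')⁻¹) * b⁻¹ by group, e.eq, mul_inv_cancel_right, ← conj_zpow, hcb]
      exact zpow_mem (inv_mem (mem_zpowers c)) k⟩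
  have hwK : w ∈ zpowers c := by
    refine (QuotientGroup.eq_one_iff w).1 ?_
    have hcomm : ∀ x y : H ⧸ zpowers c, x * y = y * x := by
      refine comm_of_shape (a := (a : H ⧸ zpowers c)) (b := (b : H ⧸ zpowers c)) ?_
        (fun z => ∃ z' : H, f z' = 1 ∧ (z' : H ⧸ zpowers c) = z) ?_ ?_
      · refine (commutatorElement_eq_one_iff_mul_comm.1 ?_).symm
        rw [commutatorElement_def]
        exact (QuotientGroup.eq_one_iff c).2 (mem_zpowers c)
      · rintro _ ⟨z', hz', rfl⟩ g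
        obtain ⟨g, rfl⟩ := QuotientGroup.mk_surjective g
        exact (hker z' hz' g).map (QuotientGroup.mk' (zpowers c))
      · intro x
        obtain ⟨x, rfl⟩ := QuotientGroup.mk_surjective x
        obtain ⟨j, z', hz', rfl | rfl⟩ := hshape x
        · exact ⟨j, _, ⟨z', hz', rfl⟩, Or.inl (by rw [QuotientGroup.mk_mul, QuotientGroup.mk_pow])⟩
        · exact ⟨j, _, ⟨z', hz', rfl⟩,
            Or.inr (by rw [QuotientGroup.mk_mul, QuotientGroup.mk_mul, QuotientGroup.mk_pow])⟩
    have h1 : (QuotientGroup.mk' (zpowers c)) w ∈ commutator (H ⧸ zpowers c) := by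
      have := mem_map_of_mem (QuotientGroup.mk' (zpowers c)) hw
      rw [commutator_def, map_commutator] at this
      rw [commutator_def]
      exact commutator_mono le_top le_top this
    rw [commutator_eq_bot_of_comm hcomm, mem_bot] at h1
    exact h1
  -- the order of `c`
  obtain ⟨k, rfl⟩ := mem_zpowers_iff.1 hwK
  have hci : c ^ i = 1 := by
    have e1 : (a⁻¹ * z0) ^ i = a ^ i := by rw [← hba, conj_pow, (hai b).eq, mul_inv_cancel_right]
    have e3 : c = (a⁻¹ * z0) * a⁻¹ := by rw [hc, hba]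
    rw [e3, (((Commute.refl a).inv_right.mul_right (hz0c a)).inv_left.symm).mul_pow, e1, inv_pow, mul_inv_cancel]
  have hfc : f c = (f a ^ 2)⁻¹ := by
    rw [hc, hba]
    simp only [map_mul, map_inv, hz0, mul_one, pow_two, mul_inv_rev]
  obtain ⟨u, hu⟩ := (hH c)
  obtain ⟨u', -, hu'⟩ := (Nat.dvd_prime_pow Nat.prime_two).1 (orderOf_dvd_of_pow_eq_one hu)
  obtain ⟨v, hv⟩ := (hH a)
  obtain ⟨t, -, ht⟩ := (Nat.dvd_prime_pow Nat.prime_two).1 ((orderOf_map_dvd f a).trans (orderOf_dvd_of_pow_eq_one hv))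
  have hfs : f s = f a ^ i := by rw [hse, map_mul, hz, mul_one, map_pow]
  have hni : ¬ 2 ^ t ∣ i := fun hd => hs1 (hfs ▸ orderOf_dvd_iff_pow_eq_one.1 (ht ▸ hd))
  have h2i : 2 ^ t ∣ 2 * i := ht ▸ orderOf_dvd_of_pow_eq_one (by rw [two_mul, pow_add, ← hfs, hs2])
  have h2k : ((2 ^ t : ℕ) : ℤ) ∣ 2 * k := by
    rw [← ht]
    refine orderOf_dvd_iff_zpow_eq_one.2 ?_
    have h1 : f c ^ k = 1 := by rw [← map_zpow, hwf]
    rw [hfc, inv_zpow, inv_eq_one, ← zpow_natCast, ← zpow_mul] at h1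
    exact h1
  rcases t with _ | t
  · exact absurd (one_dvd i) (by simpa using hni)
  rw [pow_succ'] at h2i h2k
  have h3 : 2 ^ t ∣ i := Nat.dvd_of_mul_dvd_mul_left two_pos h2i
  have h4 : ((2 ^ t : ℕ) : ℤ) ∣ k := by
    push_cast at h2k ⊢
    exact Int.dvd_of_mul_dvd_mul_left two_ne_zero h2k
  have hu2 : u' ≤ t := by
    by_contra hlt
    refine hni ((pow_dvd_pow 2 (show t + 1 ≤ u' by omega)).trans ?_)
    rw [← hu']
    exact orderOf_dvd_of_pow_eq_one hci
  refine orderOf_dvd_iff_zpow_eq_one.1 ?_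
  rw [hu']
  exact (Int.natCast_dvd_natCast.2 (pow_dvd_pow 2 hu2)).trans h4

variable {p m A N : ℕ} {F : Type*} [Field F] [Fintype F]

local notation "SL" => Matrix.SpecialLinearGroup (Fin 2) F
local notation "PSL" => Matrix.ProjectiveSpecialLinearGroup (Fin 2) F

/-- The image of a Sylow subgroup is the image of one of `SL(2,q)`. -/
theorem exists_model (e : G ⧸ center G ≃* PSL) {r : ℕ} [Fact r.Prime] (S : Sylow r G) :
    ∃ (ψ : SL →* G ⧸ center G) (R : Sylow r SL),
      (R : Subgroup SL).map ψ = (S : Subgroup G).map (QuotientGroup.mk' (center G)) := by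
  let ψ0 : SL →* G ⧸ center G := e.symm.toMonoidHom.comp CfsgLib.PSL2Two.π
  have hψ : Function.Surjective ψ0 := e.symm.surjective.comp CfsgLib.PSL2Two.π_surjective
  obtain ⟨R⟩ : Nonempty (Sylow r SL) := inferInstance
  obtain ⟨g, hg⟩ := MulAction.exists_smul_eq (G ⧸ center G) (R.mapSurjective hψ)
    (S.mapSurjective (QuotientGroup.mk'_surjective (center G)))
  refine ⟨(MulAut.conj g).toMonoidHom.comp ψ0, R, ?_⟩
  have h1 := congrArg (fun P : Sylow r (G ⧸ center G) => (P : Subgroup (G ⧸ center G))) hg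
  simp only [Sylow.coe_subgroup_smul, Sylow.coe_mapSurjective] at h1
  rw [← h1, ← map_map]
  rfl

/-- Sylow subgroups for odd primes other than `p` are abelian. -/
theorem sylow_comm_odd (e : G ⧸ center G ≃* PSL) (p : ℕ) [Fact p.Prime] [CharP F p] {r : ℕ} [Fact r.Prime]
    (hr : r ≠ 2) (hrp : r ≠ p) (S : Sylow r G) : ∀ a b : (S : Subgroup G), a * b = b * a := by
  obtain ⟨ψ, R, hR⟩ := exists_model e S
  haveI := Cfsg.Agent.S0262.result p r hr hrp R
  haveI : IsCyclic ((R : Subgroup SL).map ψ) := isCyclic_of_surjective _ (ψ.subgroupMap_surjective _)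
  haveI : IsCyclic ((S : Subgroup G).map (QuotientGroup.mk' (center G))) := hR ▸ inferInstance
  intro a b
  refine commutative_of_cyclic_center_quotient ((QuotientGroup.mk' (center G)).subgroupMap (S : Subgroup G))
    (fun z hz => ?_) a b
  have hz' : (z : G) ∈ center G := (QuotientGroup.eq_one_iff _).1 (congrArg Subtype.val hz)
  exact mem_center_iff.2 fun g => Subtype.ext (mem_center_iff.1 hz' g)

namespace Hyp

variable (h : Hyp G p m A N)
include h

/-- The Sylow `p`-subgroups are abelian. -/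
theorem sylow_comm_p {d : ℕ} (D : PData (G ⧸ center G) p m A d)
    (hab : ∀ P : Sylow p (G ⧸ center G), ∀ a ∈ (P : Subgroup (G ⧸ center G)),
      ∀ b ∈ (P : Subgroup (G ⧸ center G)), a * b = b * a)
    (S : Sylow p G) : ∀ a b : (S : Subgroup G), a * b = b * a := by
  haveI : Fact p.Prime := ⟨h.hp⟩
  rintro ⟨a, ha⟩ ⟨b, hb⟩
  refine Subtype.ext ?_
  show a * b = b * a
  by_cases hac : a ∈ center G
  · exact (mem_center_iff.1 hac b).symm
  obtain ⟨i, hi⟩ := S.2 ⟨a, ha⟩
  have hi' : a ^ p ^ i = 1 := congrArg Subtype.val hi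
  have ha1 : (a : G ⧸ center G) ≠ 1 := fun e => hac ((QuotientGroup.eq_one_iff a).1 e)
  have haq : (a : G ⧸ center G) ^ p ^ m = 1 :=
    D.pow_q_of_pow (i := i) (by rw [← QuotientGroup.mk_pow, hi', QuotientGroup.mk_one])
  have heq : (C a).map (QuotientGroup.mk' (center G)) = C (a : G ⧸ center G) :=
    eq_of_le_of_card_ge (image_le a) (by rw [card_image_C, h.zc_p_elem hi' hac, D.cent _ ha1 haq])
  let P := S.mapSurjective (QuotientGroup.mk'_surjective (center G))
  have haP : (a : G ⧸ center G) ∈ (P : Subgroup (G ⧸ center G)) := ⟨a, ha, rfl⟩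
  have hbP : (b : G ⧸ center G) ∈ (P : Subgroup (G ⧸ center G)) := ⟨b, hb, rfl⟩
  have hbC : (b : G ⧸ center G) ∈ C (a : G ⧸ center G) := mem_C.2 (hab P _ hbP _ haP)
  rw [← heq] at hbC
  obtain ⟨b', hb', e1⟩ := hbC
  have h1 : b'⁻¹ * b ∈ center G := QuotientGroup.eq.1 e1
  have h2 : b ∈ C a := by
    have := mul_mem hb' (center_le a h1)
    rwa [mul_inv_cancel_left] at this
  exact (mem_C.1 h2).symm

end Hyp

theorem inv_of_index {r e : ℕ} (he : e ≤ 1) (hr : 1 ≤ r) (hr0 : e = 0 → 2 ≤ r)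
    (hF : Fintype.card F = 4 * r + 2 * e + 1) {g : PSL}
    (hg : (C g).index = (4 * r + 2 * e + 1) * (2 * r + 1)) : g * g = 1 := by
  open CfsgLib.Classical.PSL2ClassSizes CfsgLib.PSL2Two in
  obtain ⟨Am, rfl⟩ := π_surjective g
  change CfsgLib.Classical.PSL2ClassSizes.size Am = _ at hg
  obtain ⟨hqT, hqM, hTM, hAd⟩ := odd_numeric he hr
  have hd : Nat.gcd 2 (Fintype.card F - 1) = 2 := Nat.gcd_eq_left (by omega)
  have htr : Am.1.trace = 0 := by
    rcases CfsgLib.Classical.PSL2ClassSizes.size_cases Am with ⟨-, hs⟩ | hs | ⟨ht, -, -, -⟩ | ⟨ht, -, -, -⟩ | hs | hs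
    · rw [hg] at hs; exact absurd (Nat.eq_one_of_mul_eq_one_right hs) (by omega)
    · exfalso
      rw [hd, hF, hg, ← hAd, Nat.add_sub_cancel, Nat.mul_div_cancel _ two_pos] at hs
      have h5 : 4 * r + 2 * e + 1 = 4 * (r + e) :=
        Nat.eq_of_mul_eq_mul_right (show 0 < 2 * r + 1 by omega) (hs.trans (mul_comm _ _))
      omega
    · exact ht
    · exact ht
    · exfalso
      rw [hF, hg] at hs
      have h5 := Nat.eq_of_mul_eq_mul_left (show 0 < 4 * r + 2 * e + 1 by omega) hs
      omega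
    · exfalso
      rw [hF, hg] at hs
      have h5 := Nat.eq_of_mul_eq_mul_left (show 0 < 4 * r + 2 * e + 1 by omega) hs
      omega
  rw [← map_mul, ← map_one CfsgLib.PSL2Two.π]
  refine CfsgLib.PSL2Two.π_eq_iff.2 (Or.inr ?_)
  have hdet := Am.det_coe
  rw [Matrix.trace_fin_two] at htr
  rw [Matrix.det_fin_two] at hdet
  ext i j
  fin_cases i <;> fin_cases j <;> simp [Matrix.mul_apply, Fin.sum_univ_two]
  · linear_combination Am.1 0 0 * htr - hdet
  · linear_combination Am.1 0 1 * htr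
  · linear_combination Am.1 1 0 * htr
  · linear_combination Am.1 1 1 * htr - hdet

theorem index_equiv {Q Q' : Type*} [Group Q] [Finite Q] [Group Q'] [Finite Q'] (e : Q ≃* Q') (x : Q) : (C (e x)).index = (C x).index := by
  have he : C x = (C (e x)).comap e.toMonoidHom := by
    ext a
    rw [mem_comap, mem_C, mem_C, MulEquiv.coe_toMonoidHom, ← map_mul, ← map_mul, e.apply_eq_iff_eq]
  rw [he, index_comap_of_surjective _ e.surjective]

namespace OddSizes

variable {r e : ℕ} (s : OddSizes G r e)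
include s

theorem sylow_two (hp : p.Prime) (hm : 0 < m) (hq : p ^ m = 4 * r + 2 * e + 1)
    (hF : Fintype.card F = 4 * r + 2 * e + 1) (E : G ⧸ center G ≃* PSL) (S : Sylow 2 G)
    (w : (S : Subgroup G)) (hw : w ∈ commutator (S : Subgroup G)) (hwc : (w : G) ∈ center G) : w = 1 := by
  haveI : Fact (Nat.Prime 2) := ⟨Nat.prime_two⟩
  have hr := s.hr
  have H := s.hyp hp hm hq
  have O := s.odata hp hm hq
  obtain ⟨hqT, hqM, hTM, -⟩ := odd_numeric s.he hr
  -- an element of odd class size over an involution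
  obtain ⟨x, hx⟩ := s.exI
  have hzx : zc x = 4 * (r + e) := by
    have h2 := zc_mul_cs x
    rw [H.center_index, hq, hx] at h2
    exact Nat.eq_of_mul_eq_mul_right (Nat.mul_pos (show 0 < 4 * r + 2 * e + 1 by omega) (show 0 < 2 * r + 1 by omega))
      (h2.trans (by ring))
  have hzd := zc_dvd x
  rw [hzx] at hzd
  have hxc : x ∉ center G := fun hh => by
    have := mem_center_iff_cs.1 hh
    rw [hx] at this
    exact absurd (Nat.eq_one_of_mul_eq_one_right this) (by omega)
  have hx1 : (x : G ⧸ center G) ≠ 1 := fun e1 => hxc ((QuotientGroup.eq_one_iff x).1 e1)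
  have hcard : Nat.card (C (x : G ⧸ center G)) = 4 * (r + e) := by
    rcases O.card_five (x : G ⧸ center G) with ⟨h1, -⟩ | ⟨-, -, h1⟩ | ⟨-, h1 | h1 | h1⟩
    · exact absurd h1 hx1
    · rw [h1] at hzd
      exact absurd (hqM.symm.eq_one_of_dvd hzd) (by omega)
    · rw [h1] at hzd
      exact absurd (hTM.symm.eq_one_of_dvd hzd) (by omega)
    · rw [h1] at hzd
      exact absurd (Nat.le_of_dvd (by omega) hzd) (by omega)
    · exact h1
  have hx2 : (x : G ⧸ center G) * x = 1 := by
    refine E.injective ?_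
    rw [map_mul, map_one]
    refine inv_of_index s.he hr s.hr0 hF ?_
    rw [index_equiv]
    have h3 := card_mul_index (C (x : G ⧸ center G))
    rw [hcard, O.card_Q] at h3
    exact Nat.eq_of_mul_eq_mul_left (show 0 < 4 * (r + e) by omega) (h3.trans (by ring))
  have ho : orderOf (x : G ⧸ center G) = 2 := orderOf_eq_prime ((pow_two _).trans hx2) hx1
  obtain ⟨j, k, hjk, hjc⟩ := exists_component Nat.prime_two (dvd_of_eq ho.symm)
  set v := x ^ j with hv
  have hvd : cs v ∣ cs x := cs_dvd (C_le_pow x j)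
  have hvI : ¬ 2 ∣ cs v := fun h2 => by
    have h3 := h2.trans hvd
    rw [hx] at h3
    rcases Nat.prime_two.dvd_mul.1 h3 with h4 | h4 <;> omega
  obtain ⟨S1, hS1⟩ := (IsPGroup.of_card (p := 2) (n := (orderOf v).factorization 2)
    (G := zpowers (⟨v, self_mem v⟩ : C v)) (by
      rw [Nat.card_zpowers, Subgroup.orderOf_mk]
      obtain ⟨t, -, ht⟩ := (Nat.dvd_prime_pow Nat.prime_two).1 (orderOf_dvd_of_pow_eq_one hjk)
      rw [ht, Nat.prime_two.factorization_pow, Finsupp.single_eq_same])).exists_le_sylow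
  let S0 : Sylow 2 G := (S1.2.map (C v).subtype).toSylow (by
    rw [index_map_of_injective _ (C v).subtype_injective, range_subtype]
    exact Nat.prime_two.not_dvd_mul S1.not_dvd_index hvI)
  obtain ⟨g, hg⟩ := MulAction.exists_smul_eq G S0 S
  have hsS : g * v * g⁻¹ ∈ (S : Subgroup G) := by
    rw [← hg, smul_sylow_iff, show g⁻¹ * (g * v * g⁻¹) * g = v by group]
    exact ⟨⟨v, self_mem v⟩, hS1 (mem_zpowers _), rfl⟩
  have hsc : ∀ a : (S : Subgroup G), Commute a ⟨g * v * g⁻¹, hsS⟩ := fun ⟨a, ha⟩ => by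
    refine Subtype.ext ?_
    show a * (g * v * g⁻¹) = g * v * g⁻¹ * a
    rw [← hg, smul_sylow_iff] at ha
    exact mem_C.1 (mem_conj_C.2 (map_subtype_le _ ha))
  -- the Sylow subgroup of the quotient
  obtain ⟨ψ, R, hR⟩ := exists_model E S
  obtain ⟨k', -, ⟨φ⟩⟩ := Cfsg.Agent.S0261.result (F := F) (by rw [hF]; exact ⟨2 * r + e, by ring⟩) R
  let θ : QuaternionGroup (2 ^ k') →* G ⧸ center G := ψ.comp ((R : Subgroup SL).subtype.comp φ.symm.toMonoidHom)
  have hθ : ∀ y : G ⧸ center G, y ∈ (S : Subgroup G).map (QuotientGroup.mk' (center G)) ↔ ∃ u, θ u = y := by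
    intro y
    rw [← hR]
    constructor
    · rintro ⟨t, ht, rfl⟩
      exact ⟨φ ⟨t, ht⟩, by simp [θ]⟩
    · rintro ⟨u, rfl⟩
      exact ⟨_, (φ.symm u).2, rfl⟩
  let f : (S : Subgroup G) →* G ⧸ center G := (QuotientGroup.mk' (center G)).comp (S : Subgroup G).subtype
  obtain ⟨a, ha, hθa⟩ := (hθ (θ (QuaternionGroup.a 1))).2 ⟨_, rfl⟩
  obtain ⟨b, hb, hθb⟩ := (hθ (θ (QuaternionGroup.xa 0))).2 ⟨_, rfl⟩
  let a' : (S : Subgroup G) := ⟨a, ha⟩
  let b' : (S : Subgroup G) := ⟨b, hb⟩
  have hfa : f a' = θ (QuaternionGroup.a 1) := hθa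
  have hfb : f b' = θ (QuaternionGroup.xa 0) := hθb
  have hker : ∀ z, f z = 1 → ∀ g : (S : Subgroup G), Commute g z := fun z hz g =>
    Subtype.ext (mem_center_iff.1 ((QuotientGroup.eq_one_iff _).1 hz) g)
  refine commutator_inf_eq_one f S.2 hker (a := a') (b := b') (z0 := a' * (b' * a' * b'⁻¹))
    (s := ⟨g * v * g⁻¹, hsS⟩) (by rw [inv_mul_cancel_left]) ?_ ?_ hsc ?_ ?_ hw
    ((QuotientGroup.eq_one_iff _).2 hwc)
  · rw [map_mul, map_mul, map_mul, map_inv, hfa, hfb, ← map_inv, ← map_mul, ← map_mul, ← map_mul]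
    suffices h0 : QuaternionGroup.a (1 : ZMod (2 * 2 ^ k')) *
        (QuaternionGroup.xa 0 * QuaternionGroup.a 1 * (QuaternionGroup.xa 0)⁻¹) = 1 by rw [h0, map_one]
    have h1 : QuaternionGroup.xa (0 : ZMod (2 * 2 ^ k')) * QuaternionGroup.a 1 =
        QuaternionGroup.a (-1) * QuaternionGroup.xa 0 := by simp
    rw [h1, mul_inv_cancel_right, QuaternionGroup.a_mul_a, add_neg_cancel]
    rfl
  · intro y
    obtain ⟨u, hu⟩ := (hθ (f y)).1 ⟨y, y.2, rfl⟩
    have hpow : ∀ i : ZMod (2 * 2 ^ k'), (QuaternionGroup.a 1) ^ i.val = QuaternionGroup.a i := fun i => by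
      rw [QuaternionGroup.a_one_pow, ZMod.natCast_zmod_val]
    cases u with
    | a i =>
      refine ⟨i.val, (a' ^ i.val)⁻¹ * y, ?_, Or.inl (mul_inv_cancel_left _ _).symm⟩
      rw [map_mul, map_inv, map_pow, hfa, ← map_pow, hpow, hu, inv_mul_cancel]
    | xa i =>
      refine ⟨i.val, (b' * a' ^ i.val)⁻¹ * y, ?_, Or.inr (mul_inv_cancel_left _ _).symm⟩
      rw [map_mul, map_inv, map_mul, map_pow, hfa, hfb, ← map_pow, hpow, ← map_mul, QuaternionGroup.xa_mul_a,
        zero_add, hu, inv_mul_cancel]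
  · intro e1
    refine hjc ?_
    have h1 := (QuotientGroup.eq_one_iff _).1 e1
    have h1' : g * v * g⁻¹ ∈ center G := h1
    rwa [Normal.mem_comm_iff (inferInstance : (center G).Normal), inv_mul_cancel_left] at h1'
  · show (QuotientGroup.mk' (center G)) (g * v * g⁻¹) * (QuotientGroup.mk' (center G)) (g * v * g⁻¹) = 1
    rw [← map_mul, show g * v * g⁻¹ * (g * v * g⁻¹) = g * (v * v) * g⁻¹ by group, map_mul, map_mul,
      show (QuotientGroup.mk' (center G)) (v * v) = 1 by
        rw [hv, ← pow_add, ← two_mul, map_pow, pow_mul, QuotientGroup.mk'_apply, pow_two, hx2, one_pow],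
      mul_one, ← map_mul, mul_inv_cancel, map_one]

end OddSizes

/-- From trivial intersection of centre and derived group to the product. -/
theorem product_of_inf (E : G ⧸ center G ≃* PSL) (hF : 4 ≤ Fintype.card F) (hna : ¬ ∀ a b : G ⧸ center G, a * b = b * a)
    (hinf : commutator G ⊓ center G = ⊥) :
    ∃ N A : Subgroup G, N.Normal ∧ A ≤ center G ∧ N ⊓ A = ⊥ ∧ N ⊔ A = ⊤ ∧ Nonempty (N ≃* PSL) := by
  haveI : IsSimpleGroup PSL := Matrix.ProjectiveSpecialLinearGroup.rank_two_simple (by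
    rw [Nat.card_eq_fintype_card]; exact hF)
  haveI : Nontrivial (G ⧸ center G) := E.toEquiv.nontrivial
  haveI : IsSimpleGroup (G ⧸ center G) := IsSimpleGroup.isSimpleGroup_of_surjective E.symm.toMonoidHom E.symm.surjective
  have hperf : commutator (G ⧸ center G) = ⊤ :=
    ((inferInstance : (commutator (G ⧸ center G)).Normal).eq_bot_or_eq_top).resolve_left fun h0 => hna fun a b => by
      refine commutatorElement_eq_one_iff_mul_comm.1 (mem_bot.1 ?_)
      rw [← h0, commutator_def]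
      exact commutator_mem_commutator (mem_top a) (mem_top b)
  have hmap : (commutator G).map (QuotientGroup.mk' (center G)) = ⊤ := by
    rw [commutator_def, map_commutator, map_top_of_surjective _ (QuotientGroup.mk'_surjective _), ← commutator_def,
      hperf]
  have hsup : commutator G ⊔ center G = ⊤ := by
    have h1 := comap_map_eq (QuotientGroup.mk' (center G)) (commutator G)
    rw [hmap, comap_top, QuotientGroup.ker_mk'] at h1
    exact h1.symm
  refine ⟨commutator G, center G, inferInstance, le_rfl, hinf, hsup, ?_⟩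
  let f : commutator G →* G ⧸ center G := (QuotientGroup.mk' (center G)).comp (commutator G).subtype
  refine ⟨(MulEquiv.ofBijective f ⟨(MonoidHom.ker_eq_bot_iff f).1 (eq_bot_iff.2 fun x hx => ?_), fun y => ?_⟩).trans E⟩
  · have h1 : (x : G) ∈ commutator G ⊓ center G := mem_inf.2 ⟨x.2, (QuotientGroup.eq_one_iff _).1 hx⟩
    rw [hinf, mem_bot] at h1
    exact mem_bot.2 (Subtype.ext h1)
  · obtain ⟨z, hz, rfl⟩ : y ∈ (commutator G).map (QuotientGroup.mk' (center G)) := hmap ▸ mem_top y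
    exact ⟨⟨z, hz⟩, rfl⟩

theorem inf_eq_bot_of_sylow
    (h : ∀ r : ℕ, r.Prime → ∀ (S : Sylow r G) (w : (S : Subgroup G)),
      w ∈ commutator (S : Subgroup G) → (w : G) ∈ center G → w = 1) : commutator G ⊓ center G = ⊥ := by
  rw [eq_bot_iff]
  intro z hz
  rw [mem_bot]
  by_contra hz1
  obtain ⟨r, hr, hd⟩ := Nat.exists_prime_and_dvd (show orderOf z ≠ 1 by rwa [Ne, orderOf_eq_one_iff])
  haveI := Fact.mk hr
  set w := z ^ (orderOf z / r) with hw
  have hwo : orderOf w = r := orderOf_pow_orderOf_div (orderOf_pos z).ne' hd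
  obtain ⟨S, hS⟩ := (IsPGroup.of_card (p := r) (n := 1) (G := zpowers w)
    (by rw [Nat.card_zpowers, hwo, pow_one])).exists_le_sylow
  have h1 := h r hr S ⟨w, hS (mem_zpowers w)⟩
    (central_mem_derived S (pow_mem (mem_inf.1 hz).2 _) (pow_mem (mem_inf.1 hz).1 _) _)
    (pow_mem (mem_inf.1 hz).2 _)
  have h2 : w = 1 := congrArg Subtype.val h1
  rw [h2, orderOf_one] at hwo
  exact hr.one_lt.ne hwo

theorem not_comm_of_pdata {d : ℕ} (D : PData (G ⧸ center G) p m A d) (hA : A ≠ 1) :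
    ¬ ∀ a b : G ⧸ center G, a * b = b * a := fun hc => by
  haveI : Fact p.Prime := ⟨D.hp⟩
  obtain ⟨v, hv⟩ := exists_prime_orderOf_dvd_card' (G := G ⧸ center G) p
    (D.card ▸ (dvd_pow_self p D.m_pos.ne').mul_right A)
  have hv1 : v ≠ 1 := fun e => D.hp.one_lt.ne (by rw [← hv, e, orderOf_one])
  have h1 := D.cent v hv1 (D.pow_q_of_pow (i := 1) (by rw [pow_one, ← hv, pow_orderOf_eq_one]))
  rw [show C v = ⊤ from eq_top_iff.2 fun g _ => mem_C.2 (hc g v), Subgroup.card_top, D.card] at h1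
  exact hA (Nat.eq_of_mul_eq_mul_left (pow_pos D.hp.pos m) (h1.trans (mul_one _).symm))

theorem product (hq : (2 ∣ Fintype.card F ∧ 2 < Fintype.card F) ∨ (¬ 2 ∣ Fintype.card F ∧ 7 ≤ Fintype.card F))
    (h : Set.range (fun g : G => (Subgroup.centralizer ({g} : Set G)).index) =
      Set.range (fun g : PSL => (Subgroup.centralizer ({g} : Set PSL)).index)) :
    ∃ N A : Subgroup G, N.Normal ∧ A ≤ center G ∧ N ⊓ A = ⊥ ∧ N ⊔ A = ⊤ ∧ Nonempty (N ≃* PSL) := by
  obtain ⟨p, hchar, ⟨m, hm⟩, hp, hF⟩ := FiniteField.card' F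
  change Fintype.card F = p ^ m at hF
  haveI := hchar
  haveI := Fact.mk hp
  have habel : ∀ {r : ℕ} (S : Sylow r G), (∀ a b : (S : Subgroup G), a * b = b * a) →
      ∀ w : (S : Subgroup G), w ∈ commutator (S : Subgroup G) → (w : G) ∈ center G → w = 1 :=
    fun S hS w hw _ => by rwa [commutator_eq_bot_of_comm hS, mem_bot] at hw
  rcases hq with ⟨h2, h4⟩ | ⟨hodd, h7⟩
  · obtain ⟨m', s, hF'⟩ := evenSizes_of h2 h4 h
    obtain rfl : 2 = p := (Nat.prime_dvd_prime_iff_eq Nat.prime_two hp).1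
      (Nat.prime_two.dvd_of_dvd_pow (hF ▸ h2))
    obtain ⟨E⟩ := s.quot_iso hF'
    refine product_of_inf E (by omega) (not_comm_of_pdata s.pdata s.hyp.extA.1)
      (inf_eq_bot_of_sylow fun r hr S w hw hwc => ?_)
    haveI := Fact.mk hr
    by_cases hr2 : r = 2
    · subst hr2
      exact habel S (s.hyp.sylow_comm_p s.pdata s.sylow_comm S) w hw hwc
    · exact habel S (sylow_comm_odd E 2 hr2 hr2 S) w hw hwc
  · obtain ⟨r', e, s, hF'⟩ := oddSizes_of hodd h7 h
    have hq' : p ^ m = 4 * r' + 2 * e + 1 := hF.symm.trans hF'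
    obtain ⟨E⟩ := s.quot_iso hp hm hq' hF
    have O := s.odata hp hm hq'
    refine product_of_inf E (by omega) (not_comm_of_pdata O.base (s.hyp hp hm hq').extA.1)
      (inf_eq_bot_of_sylow fun r hr S w hw hwc => ?_)
    haveI := Fact.mk hr
    by_cases hr2 : r = 2
    · subst hr2
      exact s.sylow_two hp hm hq' hF' E S w hw hwc
    by_cases hrp : r = p
    · subst hrp
      exact habel S ((s.hyp hp hm hq').sylow_comm_p O.base O.sylow_comm S) w hw hwc
    · exact habel S (sylow_comm_odd E p hr2 hrp S) w hw hwc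

end CfsgLib.Char.PslSizes
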